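import Cfsg.Agent.H823.O8S.Base

/-!
# S3691 (regular subgroups), row `PΩ⁺₈(q)`, `q ≥ 16`: definitions (helper823)

`r = r₄` (`RB p a r b`), `s = r₆` (`RK p a s k`), `t = r₃` (`Prim p (3 a) t`).
-/

set_option autoImplicit false
set_option linter.unusedSectionVars false

namespace Cfsg.Agent.H823.O8R

open Module QuadraticMap Cfsg Cfsg.Geo Cfsg.Agent.LieClassical.OrthCore Cfsg.Agent.H955 Cfsg.Agent.H954.TSing
open Cfsg.Agent.LieClassical.OmegaReindex
open Cfsg.Agent.H951 (fx cm Inv)
open Cfsg.Agent.H884.El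
open Cfsg.Agent.H708.O8 (I8 T8 RB)
open Cfsg.Agent.H436 (Prim)
open Cfsg.Agent.H823.O8S
open scoped MatrixGroups Matrix

variable {F : Type} [Field F] [Fintype F]

/-- `R` fixes a nonsingular point of the natural module -/
def FixV (R : Subgroup (T8 F)) : Prop :=
  ∃ w : I8 → F, quadFormPlus 4 F w ≠ 0 ∧ pre (quadFormPlus 4 F) R ≤ SW (Submodule.span F {w})

/-- `R` fixes an anisotropic plane of the natural module -/
def FixP (R : Subgroup (T8 F)) : Prop :=
  ∃ W : Submodule F (I8 → F), finrank F W = 2 ∧ (∀ w ∈ W, quadFormPlus 4 F w = 0 → w = 0) ∧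
    pre (quadFormPlus 4 F) R ≤ SW W

/-- `R` normalises a field of similitudes of order `q²` -/
def FixJ (R : Subgroup (T8 F)) : Prop :=
  ∃ (J : Module.End F (I8 → F)) (c d : F), Fld J c d ∧ pre (quadFormPlus 4 F) R ≤ NJ J c

/-- `R` contains the Siegel transformations supported by `U^⊥` (they generate `Ω(U^⊥)`) -/
def HasSieg (R : Subgroup (T8 F)) (U : Submodule F (I8 → F)) : Prop :=
  ∀ (u w : I8 → F) (hu : LieClassical.QuadForms.plusForm 4 F u = 0)
    (hw : polar (LieClassical.QuadForms.plusForm 4 F) u w = 0),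
    (∀ v ∈ U, polar (LieClassical.QuadForms.plusForm 4 F) u v = 0) →
    (∀ v ∈ U, polar (LieClassical.QuadForms.plusForm 4 F) w v = 0) →
    (LieClassical.OrthFinite.glEquiv I8 F).symm (LieClassical.OrthCore.siegel (LieClassical.QuadForms.plusForm 4 F) u w hu hw) ∈
      pre (quadFormPlus 4 F) R

/-- the numbers -/
structure Nm (p a r b s k t : ℕ) : Prop where
  rb : RB p a r b
  rk : RK p a s k
  t : Prim p (3 * a) t
  q16 : 16 ≤ p ^ a

end Cfsg.Agent.H823.O8R
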