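import Cfsg.Agent.H823.O8R.Row
import Cfsg.Agent.H683.O8R.F34Of
import Cfsg.Agent.S0000

/-!
# S3691: **the row `PΩ⁺₈(q)`**, complete (helper823)
-/

set_option autoImplicit false

namespace Cfsg.Agent.H823.O8R

open Cfsg Cfsg.Agent.H454.Reg

universe u

/-- the row, with the classification as a hypothesis -/
theorem oplus4_of (hKn : ∀ (X : Type) [Group X] [Finite X] [IsSimpleGroup X], Cfsg.IsKnownSimple' X)
    (F : Type) [Field F] [Fintype F] : Row.{0, u} (POmega F (quadFormPlus 4 F)) := by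
  refine row8 hKn ?_
  intro p a r b s k t hF h R _ hr ht hs hp
  exact H683.F34.f34_of hKn hF h hr ht hs hp

/-- **the row `PΩ⁺₈(q)`** -/
theorem oplus4 (F : Type) [Field F] [Fintype F] : Row.{0, u} (POmega F (quadFormPlus 4 F)) :=
  oplus4_of (fun _ _ _ _ => Cfsg.Agent.S0000.result) F

end Cfsg.Agent.H823.O8R
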