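import Cfsg.Agent.H823.O8R.Over
import Cfsg.Agent.H454.Reg.Tools
import Cfsg.Agent.H934.OutB
import Cfsg.Agent.H886.O8R.Kill
import Cfsg.Agent.H372.O8R.Ord2
import Cfsg.Agent.H832.O8R.Num

/-!
# S3691, row `PΩ⁺₈(q)`, `q ≥ 16`: the reduction to a factor of type `Ω₇(q)` (helper823)
-/

set_option autoImplicit false
set_option linter.unusedSectionVars false

namespace Cfsg.Agent.H823.O8R

open Module QuadraticMap Cfsg Cfsg.Geo Cfsg.Agent.LieClassical.OrthCore Cfsg.Agent.H955 Cfsg.Agent.H954.TSing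
open Cfsg.Agent.LieClassical.OmegaReindex Cfsg.Agent.H454.Reg
open Cfsg.Agent.H951 (fx cm Inv)
open Cfsg.Agent.H884.El
open Cfsg.Agent.H708.O8 (I8 T8 RB)
open Cfsg.Agent.H436 (Prim)
open Cfsg.Agent.H823.O8S
open scoped MatrixGroups Matrix Pointwise

section num

theorem fac_le_two {a : ℕ} (ha : 4 ≤ a) : a.factorization 2 + 2 ≤ a := by
  have h1 : 2 ^ a.factorization 2 ≤ a := Nat.le_of_dvd (by omega) (Nat.ordProj_dvd a 2)
  obtain ⟨v, hv⟩ : ∃ v, v = a.factorization 2 := ⟨_, rfl⟩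
  rw [← hv] at h1 ⊢
  have h2 : ∀ v : ℕ, 2 ≤ v → v + 2 ≤ 2 ^ v := by
    intro v hv
    induction v, hv using Nat.le_induction with
    | base => norm_num
    | succ n hn ih => rw [pow_succ]; omega
  by_cases h : 2 ≤ v
  · exact (h2 v h).trans h1
  · omega

theorem fac_le_three {a : ℕ} (ha : 3 ≤ a) : a.factorization 3 + 2 ≤ a := by
  have h1 : 3 ^ a.factorization 3 ≤ a := Nat.le_of_dvd (by omega) (Nat.ordProj_dvd a 3)
  obtain ⟨v, hv⟩ : ∃ v, v = a.factorization 3 := ⟨_, rfl⟩
  rw [← hv] at h1 ⊢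
  have h2 : ∀ v : ℕ, 1 ≤ v → v + 2 ≤ 3 ^ v := by
    intro v hv
    induction v, hv using Nat.le_induction with
    | base => norm_num
    | succ n hn ih => rw [pow_succ]; omega
  by_cases h : 1 ≤ v
  · exact (h2 v h).trans h1
  · omega

theorem fac_lt {a p : ℕ} (hp : p.Prime) (ha : 1 ≤ a) : a.factorization p + 1 ≤ a := by
  have h1 : p ^ a.factorization p ≤ a := Nat.le_of_dvd (by omega) (Nat.ordProj_dvd a p)
  have h2 := Nat.lt_pow_self (n := a.factorization p) hp.one_lt
  omega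

variable {p a r b s k t : ℕ}

theorem Nm.out_bound (h : Nm p a r b s k t) {o : ℕ} (ho : o ≤ a.factorization p + (if p = 2 then 1 else if p = 3 then 1 else 0)) :
    o + (if p = 2 then 3 else 0) + 2 ≤ 2 * a ∧ o + (if p = 2 then 1 else 0) ≤ a := by
  have hp := h.rb.hp
  have ha := h.rb.ha
  have hq := h.q16
  by_cases h2 : p = 2
  · subst h2
    have ha4 : 4 ≤ a := by
      by_contra hcon
      have h1 : a ≤ 3 := by omega
      have h3 : 2 ^ a ≤ 2 ^ 3 := Nat.pow_le_pow_right (by norm_num) h1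
      omega
    have := fac_le_two ha4
    simp only [if_true] at ho ⊢
    omega
  · by_cases h3 : p = 3
    · subst h3
      have ha3 : 3 ≤ a := by
        by_contra hcon
        have h1 : a ≤ 2 := by omega
        have h3 : 3 ^ a ≤ 3 ^ 2 := Nat.pow_le_pow_right (by norm_num) h1
        omega
      have := fac_le_three ha3
      simp only [h2, if_false, if_true] at ho ⊢
      omega
    · simp only [h2, h3, if_false] at ho ⊢
      have := fac_lt hp ha
      omega

end num

variable {F : Type} [Field F] [Fintype F] {p a r b s k t : ℕ}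

/-- a factorisation of `T8 F` up to outer automorphisms -/
structure FD (X Y : Subgroup (T8 F)) (s : ℕ) : Prop where
  neX : X ≠ ⊤
  neY : Y ≠ ⊤
  val : ∀ l, ¬ l ∣ Nat.card (Cfsg.Out (T8 F)) →
    (Nat.card X).factorization l + (Nat.card Y).factorization l = (Nat.card (T8 F)).factorization l
  val_ge : ∀ l, (Nat.card (T8 F)).factorization l ≤
    (Nat.card X).factorization l + (Nat.card Y).factorization l + (Nat.card (Cfsg.Out (T8 F))).factorization l
  six : s ∣ Nat.card X → ¬ s ∣ Nat.card Y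
  conj : ∀ x ∈ X, ∀ g, g * x * g⁻¹ ∈ Y → x = 1
  card : Nat.card X * Nat.card Y ≤ Nat.card (T8 F)

theorem FD.symm {X Y : Subgroup (T8 F)} (h : FD X Y s) : FD Y X s where
  neX := h.neY
  neY := h.neX
  val := fun l hl => by rw [add_comm]; exact h.val l hl
  val_ge := fun l => by
    have h1 := h.val_ge l
    omega
  six := fun h1 h2 => h.six h2 h1
  conj := fun y hy g hg => by
    have h1 := h.conj _ hg g⁻¹ (by
      have : g⁻¹ * (g * y * g⁻¹) * g⁻¹⁻¹ = y := by group
      rw [this]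
      exact hy)
    have h2 : y = g⁻¹ * (g * y * g⁻¹) * g := by group
    rw [h2, h1]
    group
  card := by rw [mul_comm]; exact h.card

theorem FD.map {X Y : Subgroup (T8 F)} (h : FD X Y s) (α : MulAut (T8 F)) :
    FD (X.map α.toMonoidHom) (Y.map α.toMonoidHom) s where
  neX := map_ne_top h.neX α
  neY := map_ne_top h.neY α
  val := by
    intro l
    rw [card_map, card_map]
    exact h.val l
  val_ge := by
    intro l
    rw [card_map, card_map]
    exact h.val_ge l
  six := by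
    rw [card_map, card_map]
    exact h.six
  conj := by
    rintro _ ⟨x, hx, rfl⟩ g ⟨y, hy, hxy⟩
    have h1 : α (α.symm g * x * (α.symm g)⁻¹) = g * α x * g⁻¹ := by
      rw [map_mul, map_mul, map_inv, α.apply_symm_apply]
    have h2 : y = α.symm g * x * (α.symm g)⁻¹ := by
      apply α.injective
      rw [h1]
      exact hxy
    have h3 : x = 1 := h.conj x hx (α.symm g) (h2 ▸ hy)
    rw [h3, map_one]
  card := by
    rw [card_map, card_map]
    exact h.card

theorem fd_of_fac {G : Type*} [Group G] [Finite G] {T X Y : Subgroup G} (hf : Fac T X Y) (eT : T ≃* T8 F)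
    (hs : PP (Nat.card F) 6 s) :
    FD ((X.subgroupOf T).map eT.toMonoidHom) ((Y.subgroupOf T).map eT.toMonoidHom) s := by
  have hc : ∀ Z : Subgroup T, Nat.card (Z.map eT.toMonoidHom) = Nat.card Z := fun Z =>
    Subgroup.card_map_of_injective eT.injective
  have hT : Nat.card T = Nat.card (T8 F) := Nat.card_congr eT.toEquiv
  have hout : Nat.card (Cfsg.Out T) = Nat.card (Cfsg.Out (T8 F)) := H934.OutB.card_out_congr eT
  have htop : ∀ Z : Subgroup T, Z ≠ ⊤ → Z.map eT.toMonoidHom ≠ ⊤ := by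
    intro Z hZ h
    apply hZ
    apply Subgroup.eq_top_of_card_eq
    rw [← hc, h, Subgroup.card_top, hT]
  refine ⟨htop _ hf.ne_top_left, htop _ hf.ne_top_right, ?_, ?_, ?_, ?_, ?_⟩
  · intro l hl
    rw [hc, hc, ← hT]
    exact hf.val_eq (by rw [hout]; exact hl)
  · intro l
    rw [hc, hc, ← hT, ← hout]
    exact hf.val_ge l
  · rw [hc, hc]
    intro h1 h2
    refine hf.not_both hs.prime ?_ h1 h2
    intro P hP
    have e : P ≃* (⊤ : Subgroup (P.map eT.toMonoidHom)) :=
      (P.equivMapOfInjective eT.toMonoidHom eT.injective).trans Subgroup.topEquiv.symm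
    have h3 : IsCyclic (⊤ : Subgroup (P.map eT.toMonoidHom)) := cyc_six hs _ _ (hP.of_equiv e)
    exact isCyclic_of_surjective e.symm e.symm.surjective
  · rintro _ ⟨x, hx, rfl⟩ g ⟨y, hy, hxy⟩
    have h1 : eT (eT.symm g * x * (eT.symm g)⁻¹) = g * eT x * g⁻¹ := by
      rw [map_mul, map_mul, map_inv, eT.apply_symm_apply]
    have h2 : y = eT.symm g * x * (eT.symm g)⁻¹ := by
      apply eT.injective
      rw [h1]
      exact hxy
    have h3 : (x : G) = 1 := by
      refine hf.not_conj (x := (x : G)) hx ((eT.symm g : T) : G) ?_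
      have h4 : (y : G) ∈ Y := hy
      rw [h2] at h4
      exact h4
    have h5 : x = 1 := Subtype.ext h3
    rw [h5, map_one]
  · rw [hc, hc, ← hT]
    obtain ⟨e, -, -, he⟩ := hf.card0
    have he0 : 1 ≤ e := by
      rcases Nat.eq_zero_or_pos e with h | h
      · rw [h, mul_zero] at he
        exact absurd he.symm Nat.card_pos.ne'
      · exact h
    rw [← he]
    exact Nat.le_mul_of_pos_right _ he0

/-- the conclusion of F34 -/
def C34 (R : Subgroup (T8 F)) (p a r : ℕ) : Prop :=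
  (∃ y ∈ pre (quadFormPlus 4 F) R, orderOf y = r ∧ fx (lin y) ≠ ⊥) ∨
    (∃ (u w : I8 → F) (hu : LieClassical.QuadForms.plusForm 4 F u = 0)
      (hw : polar (LieClassical.QuadForms.plusForm 4 F) u w = 0), LinearIndependent F ![u, w] ∧
      (LieClassical.OrthFinite.glEquiv I8 F).symm (LieClassical.OrthCore.siegel (LieClassical.QuadForms.plusForm 4 F) u w hu hw) ∈
        pre (quadFormPlus 4 F) R) ∨
    (p ^ a) ^ 6 * ((p ^ a) - 1) * ((p ^ a) ^ 3 - 1) * ((p ^ a) ^ 4 - 1) ≤ 2 * Nat.card R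

/-- the open pieces of the reduction -/
structure Pd (F : Type) [Field F] [Fintype F] (p a r b s k t : ℕ) : Prop where
  f4 : ∀ {R : Subgroup (T8 F)}, R ≠ ⊤ → r ^ (b + 1) ∣ Nat.card R →
    ¬ s ∣ Nat.card R ∧ ¬ t ∣ Nat.card R ∧ (Nat.card R).factorization p ≤ 4 * a + (if p = 2 then 3 else 0)
  f34 : ∀ {R : Subgroup (T8 F)}, R ≠ ⊤ → r ^ b ∣ Nat.card R → t ∣ Nat.card R → ¬ s ∣ Nat.card R →
    p ^ (5 * a) ∣ Nat.card R → C34 R p a r

/-- the sizes -/
theorem size_false {q x y n g : ℕ} (hq : 16 ≤ q) (hx : q ^ 6 * (q ^ 2 - 1) * (q ^ 3 + 1) * (q ^ 4 - 1) ≤ 2 * x)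
    (hy : q ^ 6 * (q - 1) * (q ^ 3 - 1) * (q ^ 4 - 1) ≤ 2 * y) (hn : x * y ≤ n) (hg : 1 ≤ g)
    (h : n * g ^ 2 = q ^ 12 * (q ^ 2 - 1) * (q ^ 4 - 1) ^ 2 * (q ^ 6 - 1)) : False := by
  have h1 := Nat.mul_le_mul hx hy
  have h6 : (q ^ 3 + 1) * (q ^ 3 - 1) = q ^ 6 - 1 := by
    have := Nat.sq_sub_sq (q ^ 3) 1
    rw [one_pow, ← pow_mul] at this
    exact this.symm
  have h2 : q ^ 6 * (q ^ 2 - 1) * (q ^ 3 + 1) * (q ^ 4 - 1) * (q ^ 6 * (q - 1) * (q ^ 3 - 1) * (q ^ 4 - 1)) =
      (q - 1) * (q ^ 12 * (q ^ 2 - 1) * (q ^ 4 - 1) ^ 2 * (q ^ 6 - 1)) := by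
    rw [← h6]
    ring
  rw [h2, ← h] at h1
  have hpos : 0 < n * g ^ 2 := by
    rw [h]
    have a1 : 1 < q ^ 2 := Nat.one_lt_pow (by norm_num) (by omega)
    have a2 : 1 < q ^ 4 := Nat.one_lt_pow (by norm_num) (by omega)
    have a3 : 1 < q ^ 6 := Nat.one_lt_pow (by norm_num) (by omega)
    have a4 : 0 < q ^ 12 := Nat.pow_pos (by omega)
    have b1 : 0 < q ^ 2 - 1 := by omega
    have b2 : 0 < (q ^ 4 - 1) ^ 2 := Nat.pow_pos (by omega)
    have b3 : 0 < q ^ 6 - 1 := by omega
    positivity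
  have h3 : n ≤ n * g ^ 2 := Nat.le_mul_of_pos_right _ (Nat.pow_pos hg)
  have h4 : 5 * (n * g ^ 2) ≤ (q - 1) * (n * g ^ 2) := Nat.mul_le_mul_right _ (by omega)
  have h5 : 2 * x * (2 * y) = 4 * (x * y) := by ring
  omega

theorem dvd_of_fac {n l m : ℕ} (hl : l.Prime) (hn : n ≠ 0) (h : m ≤ n.factorization l) : l ^ m ∣ n :=
  (hl.pow_dvd_iff_le_factorization hn).2 h

theorem lin_glEquiv_symm (g : (I8 → F) ≃ₗ[F] (I8 → F)) (v : I8 → F) :
    lin ((LieClassical.OrthFinite.glEquiv I8 F).symm g) v = g v := by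
  obtain ⟨x, rfl⟩ := (LieClassical.OrthFinite.glEquiv I8 F).surjective g
  rw [MulEquiv.symm_apply_apply]
  rfl

/-- a Siegel transformation is not a scalar -/
theorem siegel_ne_scalar {u w : I8 → F} (hu : LieClassical.QuadForms.plusForm 4 F u = 0)
    (huw : polar (LieClassical.QuadForms.plusForm 4 F) u w = 0)
    (hl : LinearIndependent F ![u, w]) {e : F}
    (h : ∀ v, LieClassical.OrthCore.siegel (LieClassical.QuadForms.plusForm 4 F) u w hu huw v = e • v) : False := by
  have hu0 : u ≠ 0 := hl.ne_zero (i := 0)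
  have h1 := h u
  rw [siegel_apply, polar_self_of_sing hu, polar_comm _ w u, huw, zero_smul, zero_smul, mul_zero, zero_smul,
    add_zero, sub_zero, sub_zero] at h1
  have he : e = 1 := by
    have h2 : (1 - e) • u = 0 := by rw [sub_smul, one_smul, ← h1, sub_self]
    exact (sub_eq_zero.1 ((smul_eq_zero.1 h2).resolve_right hu0)).symm
  subst he
  have h3 : ∀ v, polar (LieClassical.QuadForms.plusForm 4 F) u v = 0 := by
    intro v
    have h4 := h v
    rw [siegel_apply, one_smul] at h4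
    have h5 : (-polar (LieClassical.QuadForms.plusForm 4 F) w v -
        LieClassical.QuadForms.plusForm 4 F w * polar (LieClassical.QuadForms.plusForm 4 F) u v) • u +
        polar (LieClassical.QuadForms.plusForm 4 F) u v • w = 0 := by
      have h6 : v + polar (LieClassical.QuadForms.plusForm 4 F) u v • w -
          polar (LieClassical.QuadForms.plusForm 4 F) w v • u -
          (LieClassical.QuadForms.plusForm 4 F w * polar (LieClassical.QuadForms.plusForm 4 F) u v) • u - v = 0 := by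
        rw [h4, sub_self]
      rw [← h6, sub_smul, neg_smul]
      abel
    exact ((LinearIndependent.pair_iff.1 hl) _ _ h5).2
  apply hu0
  refine nondeg8 fun v => ?_
  rw [polar_comm8]
  exact h3 v

/-- an element of `Y` conjugate in `Ω` to an element of `X` is a scalar -/
theorem kill {X Y : Subgroup (T8 F)} (hd : FD X Y s) {y g : GL I8 F} (hy : y ∈ pre (quadFormPlus 4 F) Y)
    (hg : g ∈ omegaGL (quadFormPlus 4 F)) (hgX : g * y * g⁻¹ ∈ pre (quadFormPlus 4 F) X) :
    ∃ e : F, ∀ v, lin y v = e • v := by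
  obtain ⟨yy, hyy, hyyY⟩ := exists_lift hy
  obtain ⟨yx, hyx, hyxX⟩ := exists_lift hgX
  obtain ⟨yg, hyg⟩ : ∃ yg : Omega F (quadFormPlus 4 F), gl8 F yg = g := by
    obtain ⟨y0, hy0, hyg⟩ := hg
    exact ⟨⟨y0, hy0⟩, hyg⟩
  have hinj : Function.Injective (gl8 F) := (isometryGroup F (quadFormPlus 4 F)).subtype_injective.comp
    (Omega F (quadFormPlus 4 F)).subtype_injective
  have hye : yx = yg * yy * yg⁻¹ := by
    apply hinj
    rw [map_mul, map_mul, map_inv, hyx, hyy, hyg]
  have h5 := hd.symm.conj _ hyyY (mk8 F yg) (by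
    rw [← map_inv, ← map_mul, ← map_mul, ← hye]
    exact hyxX)
  obtain ⟨e, he⟩ := mk8_eq_one h5
  refine ⟨e, fun v => ?_⟩
  rw [← he v, hyy]

/-- **the reduction** -/
theorem red (hF : Nat.card F = p ^ a) (h : Nm p a r b s k t) (pc : Pc F p a r b s k t) (pd : Pd F p a r b s k t)
    {X Y : Subgroup (T8 F)} (hd : FD X Y s) (hsX : s ^ k ∣ Nat.card X) :
    HasPt X ∧ r ∣ Nat.card X ∧ r ∣ Nat.card Y := by
  have hp := h.rb.hp
  have hrp := h.rb.prim.prime
  have htp := h.t.prime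
  have nout := H832.O8R.not_dvd_out h hF
  have nvp := H832.O8R.val_p h hF
  have nvr := H832.O8R.val_r h hF
  have hX0 : Nat.card X ≠ 0 := Nat.card_pos.ne'
  have hY0 : Nat.card Y ≠ 0 := Nat.card_pos.ne'
  have hsX1 : s ∣ Nat.card X := (dvd_pow_self s h.hk).trans hsX
  have hsY : ¬ s ∣ Nat.card Y := hd.six hsX1
  obtain ⟨hob1, hob2⟩ := h.out_bound nvp.2
  have hvp := hd.val_ge p
  rw [nvp.1] at hvp
  have hvr := hd.val r nout.1
  rw [nvr.1] at hvr
  have hvt := hd.val t nout.2.2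
  have htT : 1 ≤ (Nat.card (T8 F)).factorization t :=
    (htp.dvd_iff_one_le_factorization Nat.card_pos.ne').1 nvr.2.2
  have hpt : HasPt X → r ∣ Nat.card X := by
    rintro ⟨α, w, hw, hle, hsg⟩
    have := H372.O8R.r4_of_sieg_point hF h hw hsg
    rwa [card_map] at this
  have hb := h.rb.cases
  have hb1 : 1 ≤ b := by omega
  -- the `r`-part of `X`
  have hXr : (Nat.card X).factorization r ≤ b := by
    by_contra hcon
    push Not at hcon
    exact (pd.f4 hd.neX (dvd_of_fac hrp hX0 hcon)).1 hsX1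
  have hrY : r ∣ Nat.card Y := (hrp.dvd_iff_one_le_factorization hY0).2 (by omega)
  by_cases hYr : (Nat.card Y).factorization r ≤ b
  · have hrX : r ∣ Nat.card X := (hrp.dvd_iff_one_le_factorization hX0).2 (by omega)
    rcases f64 hF h pc hd.neX hsX hrX with h1 | h1
    · exact ⟨h1, hrX, hrY⟩
    exfalso
    obtain ⟨α, W, hW, hW0, hle, hsg⟩ := h1
    obtain ⟨ht1, hp1⟩ := pc.ord_fixP (R := X.map α.toMonoidHom) ⟨W, hW, hW0, hle⟩
    rw [card_map] at ht1 hp1
    have ht2 : (Nat.card X).factorization t = 0 := Nat.factorization_eq_zero_of_not_dvd ht1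
    have htY : t ∣ Nat.card Y := (htp.dvd_iff_one_le_factorization hY0).2 (by omega)
    have hpY : p ^ (5 * a) ∣ Nat.card Y := dvd_of_fac hp hY0 (by omega)
    have hrbY : r ^ b ∣ Nat.card Y := dvd_of_fac hrp hY0 (by omega)
    have hd' := hd.map α
    rcases pd.f34 (R := Y.map α.toMonoidHom) hd'.neY (by rw [card_map]; exact hrbY) (by rw [card_map]; exact htY)
      (by rw [card_map]; exact hsY) (by rw [card_map]; exact hpY) with ⟨y, hmem, hyr, hfx⟩ | ⟨u, w, hu, huw, hl, hmem⟩ | h2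
    · obtain ⟨g, hg, hgX⟩ := H886.O8R.kill_fix hF h hW hW0 hsg (pre_le_omegaGL hmem) hyr hfx
      obtain ⟨e, he⟩ := kill hd' hmem hg hgX
      -- `y` is a scalar with a fixed vector
      obtain ⟨v, hv, hv0⟩ := (Submodule.ne_bot_iff _).1 hfx
      have h3 := he v
      rw [H951.mem_fx.1 hv] at h3
      have h4 : (1 - e) • v = 0 := by rw [sub_smul, one_smul, ← h3, sub_self]
      have h5 : e = 1 := (sub_eq_zero.1 ((smul_eq_zero.1 h4).resolve_right hv0)).symm
      have h6 : y = 1 := by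
        apply H884.El.lin_injective
        rw [lin_one]
        refine LinearMap.ext fun u => ?_
        rw [he u, h5, one_smul]
        rfl
      rw [h6, orderOf_one] at hyr
      have := hrp.two_le
      omega
    · obtain ⟨g, hg, hgX⟩ := H886.O8R.kill_sieg hF h hW hW0 hsg u w hu huw hl
      obtain ⟨e, he⟩ := kill hd' hmem hg hgX
      refine siegel_ne_scalar hu huw hl (e := e) fun v => ?_
      rw [← he v, lin_glEquiv_symm]
    · exact size_false h.q16 (H372.O8R.le_of_sieg_plane hF h hW hW0 hsg) h2 hd'.card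
        (Nat.gcd_pos_of_pos_left _ (by norm_num)) (H832.O8R.card_t8 hF)
  · push Not at hYr
    obtain ⟨-, ht1, hp1⟩ := pd.f4 hd.neY (dvd_of_fac hrp hY0 hYr)
    have ht2 : (Nat.card Y).factorization t = 0 := Nat.factorization_eq_zero_of_not_dvd ht1
    have htX : t ∣ Nat.card X := (htp.dvd_iff_one_le_factorization hX0).2 (by omega)
    have hpX : p ^ (6 * a + 2) ∣ Nat.card X := dvd_of_fac hp hX0 (by omega)
    have h1 := f36 hF h pc hd.neX hsX htX hpX
    exact ⟨h1, hpt h1, hrY⟩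

end Cfsg.Agent.H823.O8R
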