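import Cfsg.Agent.H823.O8R.Geo
import Cfsg.Agent.H823.O8S.Res
import Cfsg.Agent.H911.O8S.Own
import Cfsg.Agent.H886.O8R.OwnOrd
import Cfsg.Agent.H708.Rg.TriV

/-!
# S3691, row `PΩ⁺₈(q)`, `q ≥ 16`: the overgroups of order divisible by `r₆` and by `r₄` or `r₃` (helper823)
-/

set_option autoImplicit false
set_option linter.unusedSectionVars false

namespace Cfsg.Agent.H823.O8R

open Module QuadraticMap Cfsg Cfsg.Geo Cfsg.Agent.LieClassical.OrthCore Cfsg.Agent.H955 Cfsg.Agent.H954.TSing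
open Cfsg.Agent.LieClassical.OmegaReindex Cfsg.Agent.OrdDiv Cfsg.Agent.H915.LD Cfsg.Agent.H902 Cfsg.Agent.H902.Names
open Cfsg.Agent.H436 Cfsg.Agent.H264.GN Cfsg.Agent.H915.GN Cfsg.Agent.H264.FKS
open Cfsg.Agent.H951 (fx cm Inv)
open Cfsg.Agent.H884.El
open Cfsg.Agent.H708.O8 (I8 T8 RB)
open Cfsg.Agent.H823.O8S
open scoped MatrixGroups Matrix Pointwise

section even

open Polynomial

theorem even_of_irr {F V : Type*} [Field F] [AddCommGroup V] [Module F V] [FiniteDimensional F V] {J : Module.End F V}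
    {c d : F} (hJ : J * J = c • J - d • (1 : Module.End F V)) (hirr : ∀ z : F, z * z - c * z + d ≠ 0) :
    Even (finrank F V) := by
  obtain ⟨f, hf⟩ : ∃ f : F[X], f = X ^ 2 - C c * X + C d := ⟨_, rfl⟩
  have hdeg : f.natDegree = 2 := by
    rw [hf]
    compute_degree!
  have hmon : f.Monic := by
    rw [hf]
    monicity!
  have hfi : Irreducible f := by
    rw [Polynomial.irreducible_iff_roots_eq_zero_of_degree_le_three (by rw [hdeg]) (by rw [hdeg]; norm_num)]
    rw [Multiset.eq_zero_iff_forall_notMem]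
    intro z hz
    rw [mem_roots hmon.ne_zero, IsRoot.def, hf] at hz
    simp only [eval_add, eval_sub, eval_pow, eval_X, eval_mul, eval_C] at hz
    exact hirr z (by rw [← hz]; ring)
  have hfact : Fact (Irreducible f) := ⟨hfi⟩
  have h0 : aeval J f = 0 := by
    rw [hf]
    simp only [map_add, map_sub, map_pow, aeval_X, map_mul, aeval_C]
    rw [pow_two, hJ, Algebra.algebraMap_eq_smul_one, Algebra.algebraMap_eq_smul_one, smul_mul_assoc, one_mul]
    abel
  let φ : AdjoinRoot f →ₐ[F] Module.End F V := Ideal.Quotient.liftₐ (Ideal.span {f}) (aeval J) (fun a ha => by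
    obtain ⟨g, rfl⟩ := Ideal.mem_span_singleton'.1 ha
    rw [map_mul, h0, mul_zero])
  let _ : Module (AdjoinRoot f) V := Module.compHom V φ.toRingHom
  have htow : IsScalarTower F (AdjoinRoot f) V := ⟨fun a k v => by
    change φ (a • k) v = a • φ k v
    rw [map_smul]
    rfl⟩
  have hK : finrank F (AdjoinRoot f) = 2 := by
    rw [(AdjoinRoot.powerBasis hmon.ne_zero).finrank, AdjoinRoot.powerBasis_dim, hdeg]
  have h1 := Module.finrank_mul_finrank F (AdjoinRoot f) V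
  rw [hK] at h1
  rw [← h1]
  exact even_two_mul _

end even

variable {F : Type} [Field F] [Fintype F] {p a r b s k t : ℕ} {R : Subgroup (T8 F)}

theorem fld_even {J : Module.End F (I8 → F)} {c d : F} (f : Fld J c d) {W : Submodule F (I8 → F)}
    (hW : ∀ w ∈ W, J w ∈ W) : Even (finrank F W) := by
  refine even_of_irr (J := J.restrict hW) (c := c) (d := d) ?_ f.irr
  ext w : 2
  have h1 := congrArg (fun g : Module.End F (I8 → F) => g w) f.sq
  exact h1

theorem Nm.pp3 (hF : Nat.card F = p ^ a) (h : Nm p a r b s k t) : PP (Nat.card F) 3 t := by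
  rw [hF]
  refine PP.of_pow ?_ h.rb.ha
  rw [mul_comm]
  exact prim_pp h.rb.hp.one_le h.t

theorem Nm.pp4 (hF : Nat.card F = p ^ a) (h : Nm p a r b s k t) : PP (Nat.card F) 4 r := by
  rw [hF]
  refine PP.of_pow ?_ h.rb.ha
  rw [mul_comm]
  exact prim_pp h.rb.hp.one_le h.rb.prim

theorem Nm.hk (h : Nm p a r b s k t) : k ≠ 0 := by
  rcases h.rk.cases with h1 | h1 <;> omega

/-- a field of order `q²` is not normalised by a group of order divisible by `r₃` -/
theorem not_dvd_of_fixJ (hF : Nat.card F = p ^ a) (h : Nm p a r b s k t) (hJ : FixJ R) : ¬ t ∣ Nat.card R := by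
  intro ht
  obtain ⟨J, c, d, f, hH⟩ := hJ
  have hfin : Finite (GL I8 F) := inferInstance
  have hQ : Nondeg (quadPlus 4 F) := nondeg_iff.2 quadPlus_nondegenerate
  have hH' : pre (quadFormPlus 4 F) R ≤ isometryGroup F (⇑(quadPlus 4 F)) := by
    rw [coe_quadPlus]
    exact H884.El.pre_le (Q := quadFormPlus 4 F) (M := R)
  have hpp := h.pp3 hF
  obtain ⟨g, hgH, hiso, hgt, hg1⟩ := exists_elt hH' hpp (by norm_num) (ht.trans card_dvd_pre)
  have hodd : Odd t := hpp.odd (by norm_num)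
  refine hiso.no_quadratic hQ (lin_ne_one hg1) hpp (by decide) le_rfl ?_ (J := J) ?_ ?_
  · rw [finrank8]; norm_num
  · intro v
    exact (comm_of_odd f (hH hgH) hodd hgt v).symm
  · intro W hW
    exact fld_even f hW

/-! ### images under automorphisms -/

theorem card_map (α : MulAut (T8 F)) : Nat.card (R.map α.toMonoidHom) = Nat.card R :=
  (Nat.card_congr (R.equivMapOfInjective α.toMonoidHom α.injective).toEquiv).symm

theorem map_ne_top (hR : R ≠ ⊤) (α : MulAut (T8 F)) : R.map α.toMonoidHom ≠ ⊤ := by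
  intro h
  apply hR
  apply Subgroup.eq_top_of_card_eq
  rw [← card_map α, h, Subgroup.card_top]

theorem map_map' (α β : MulAut (T8 F)) : (R.map α.toMonoidHom).map β.toMonoidHom = R.map (β * α).toMonoidHom := by
  rw [Subgroup.map_map]
  rfl

/-- type `Ω₇` -/
def HasPt (R : Subgroup (T8 F)) : Prop :=
  ∃ (α : MulAut (T8 F)) (w : I8 → F), quadFormPlus 4 F w ≠ 0 ∧
    pre (quadFormPlus 4 F) (R.map α.toMonoidHom) ≤ SW (Submodule.span F {w}) ∧
    HasSieg (R.map α.toMonoidHom) (Submodule.span F {w})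

/-- type `Ω₆⁻` -/
def HasPl (R : Subgroup (T8 F)) : Prop :=
  ∃ (α : MulAut (T8 F)) (W : Submodule F (I8 → F)), finrank F W = 2 ∧ (∀ w ∈ W, quadFormPlus 4 F w = 0 → w = 0) ∧
    pre (quadFormPlus 4 F) (R.map α.toMonoidHom) ≤ SW W ∧ HasSieg (R.map α.toMonoidHom) W

theorem HasPt.of_map {α : MulAut (T8 F)} (h : HasPt (R.map α.toMonoidHom)) : HasPt R := by
  obtain ⟨β, w, h1, h2, h3⟩ := h
  rw [map_map'] at h2 h3
  exact ⟨β * α, w, h1, h2, h3⟩

theorem HasPl.of_map {α : MulAut (T8 F)} (h : HasPl (R.map α.toMonoidHom)) : HasPl R := by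
  obtain ⟨β, w, h1, h4, h2, h3⟩ := h
  rw [map_map'] at h2 h3
  exact ⟨β * α, w, h1, h4, h2, h3⟩

/-- the socle has the order of `Ω₇(q)` -/
def Sp6 (p a : ℕ) (S : Type) [Group S] : Prop :=
  (∃ (K : Type) (_ : Field K) (_ : Fintype K), Fintype.card K = p ^ a ∧ Nonempty (S ≃* PSp 3 K)) ∨
      (p ≠ 2 ∧ ∃ (K : Type) (_ : Field K) (_ : Fintype K), Fintype.card K = p ^ a ∧
        Nonempty (S ≃* POmega K (quadFormOdd 3 K)))

theorem Sp6.congr {S S' : Type} [Group S] [Group S'] (h : Sp6 p a S) (e : S ≃* S') : Sp6 p a S' := by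
  rcases h with ⟨K, i1, i2, h1, ⟨f⟩⟩ | ⟨hp, K, i1, i2, h1, ⟨f⟩⟩
  · exact Or.inl ⟨K, i1, i2, h1, ⟨e.symm.trans f⟩⟩
  · exact Or.inr ⟨hp, K, i1, i2, h1, ⟨e.symm.trans f⟩⟩

/-- the open pieces -/
structure Pc (F : Type) [Field F] [Fintype F] (p a r b s k t : ℕ) : Prop where
  tri_J : ∀ {R : Subgroup (T8 F)}, FixJ R → ∃ α : MulAut (T8 F), FixP (R.map α.toMonoidHom)
  spin : ∀ {R : Subgroup (T8 F)} (_ : R ≠ ⊤) (S : Subgroup R) [S.Normal] (_ : IsSimpleGroup S)
    (_ : Subgroup.centralizer (S : Set R) = ⊥) {P : Subgroup (GL I8 F)}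
    (_ : IsResidualCore (pre (quadFormPlus 4 F) R) P) (_ : S ≃* Soc P) (_ : Sp6 p a S),
    ∃ α : MulAut (T8 F), FixV (R.map α.toMonoidHom)
  three : ∀ {R : Subgroup (T8 F)}, (∀ α : MulAut (T8 F), FixV (R.map α.toMonoidHom)) → ¬ p ^ (6 * a + 2) ∣ Nat.card R
  cross : ∀ {R : Subgroup (T8 F)} (S : Subgroup R) [S.Normal] (_ : IsSimpleGroup S) (_ : ¬ IsMulCommutative S)
    (_ : Subgroup.centralizer (S : Set R) = ⊥) {P : Subgroup (GL I8 F)}
    (_ : IsResidualCore (pre (quadFormPlus 4 F) R) P) (_ : S ≃* Soc P) (_ : ¬ IsLieTypeChar p (Soc P))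
    (_ : s ^ k ∣ Nat.card R) (_ : r ∣ Nat.card R ∨ t ∣ Nat.card R), False
  six : ∀ {R : Subgroup (T8 F)} {W : Submodule F (I8 → F)} (_ : finrank F W = 2)
    (_ : ∀ w ∈ W, quadFormPlus 4 F w = 0 → w = 0) (_ : pre (quadFormPlus 4 F) R ≤ SW W)
    (_ : s ^ k ∣ Nat.card R) (_ : r ∣ Nat.card R), HasSieg R W
  sieg_of_order : ∀ {R : Subgroup (T8 F)} {w : I8 → F} (_ : quadFormPlus 4 F w ≠ 0)
    (_ : pre (quadFormPlus 4 F) R ≤ SW (Submodule.span F {w})) (S : Subgroup R) (_ : Sp6 p a S),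
    HasSieg R (Submodule.span F {w})
  ord_fixP : ∀ {R : Subgroup (T8 F)}, FixP R →
    ¬ t ∣ Nat.card R ∧ (Nat.card R).factorization p ≤ 6 * a + (if p = 2 then 1 else 0)

/-- **the residual class** -/
theorem res_case (hF : Nat.card F = p ^ a) (h : Nm p a r b s k t) (pc : Pc F p a r b s k t) (hR : R ≠ ⊤)
    (hs : s ^ k ∣ Nat.card R) (hrt : r ∣ Nat.card R ∨ t ∣ Nat.card R ∧ p ^ (6 * a + 2) ∣ Nat.card R)
    (hres : InOrthogonalResidualClass (pre (quadFormPlus 4 F) R)) : HasPt R := by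
  obtain ⟨P, hP, -⟩ := hres
  obtain ⟨S, hSn, hS, hna, hC, ⟨e⟩⟩ := exists_res_plus (n := 4) le_rfl hP
  have hsR : s ∣ Nat.card R := (dvd_pow_self s h.hk).trans hs
  have key : Sp6 p a S → HasPt R := by
    intro hS6
    obtain ⟨α, w, hw, hle⟩ := pc.spin hR S hS hC hP e hS6
    refine ⟨α, w, hw, hle, ?_⟩
    obtain ⟨φ, -⟩ : ∃ φ : R ≃* R.map α.toMonoidHom, φ = R.equivMapOfInjective α.toMonoidHom α.injective := ⟨_, rfl⟩
    exact pc.sieg_of_order hw hle (S.map φ.toMonoidHom)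
      (hS6.congr (S.equivMapOfInjective φ.toMonoidHom φ.injective))
  by_cases hL : IsLieTypeChar p (Soc P)
  · rcases H911.O8S.own hF h.rk.weak hR S hS hna hC hP e hL hsR with ⟨E, i1, i2, hE, ⟨f⟩⟩ | hN | h6 | h6
    · exfalso
      obtain ⟨h1, h2⟩ := H886.O8R.ord_psl2 h.rb.hp h.rb.ha h.rb.prim S hC hE f
      rcases hrt with h3 | ⟨-, h3⟩
      · exact h1 h3
      · exact h2 h3
    · exfalso
      obtain ⟨h1, h2⟩ := H886.O8R.ord_psu3 h.rb.hp h.rb.ha (by have := h.q16; omega) h.rb.prim h.t S hC hN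
      rcases hrt with h3 | ⟨h3, -⟩
      · exact h1 h3
      · exact h2 h3
    · exact key (Or.inl h6)
    · exact key (Or.inr h6)
  · exfalso
    refine pc.cross S hS hna hC hP e hL hs ?_
    rcases hrt with h3 | ⟨h3, -⟩
    · exact Or.inl h3
    · exact Or.inr h3

/-- **(F36)** -/
theorem f36 (hF : Nat.card F = p ^ a) (h : Nm p a r b s k t) (pc : Pc F p a r b s k t) (hR : R ≠ ⊤)
    (hs : s ^ k ∣ Nat.card R) (ht : t ∣ Nat.card R) (hp : p ^ (6 * a + 2) ∣ Nat.card R) : HasPt R := by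
  by_contra hcon
  refine pc.three (fun α => ?_) hp
  have hc : Nat.card (R.map α.toMonoidHom) = Nat.card R := card_map α
  rcases g6 hF h.rk (R := R.map α.toMonoidHom) (by rw [hc]; exact hs) with h1 | h1 | h1 | h1
  · exact h1
  · exfalso
    exact (pc.ord_fixP h1).1 (by rw [hc]; exact ht)
  · exfalso
    exact not_dvd_of_fixJ hF h h1 (by rw [hc]; exact ht)
  · exfalso
    refine hcon (res_case hF h pc (map_ne_top hR α) (by rw [hc]; exact hs) (Or.inr ?_) h1).of_map
    rw [hc]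
    exact ⟨ht, hp⟩

/-- an element of odd order which stabilises a nonsingular point fixes it -/
theorem fx_of_SW {y : GL I8 F} (hy : y ∈ isometryGroup F (quadFormPlus 4 F)) {w : I8 → F} (hw : quadFormPlus 4 F w ≠ 0)
    (h : y ∈ SW (Submodule.span F {w})) (hodd : Odd (orderOf y)) : w ∈ fx (lin y) := by
  have h1 : lin y w ∈ Submodule.span F {w} := by
    rw [← mem_SW.1 h]
    exact ⟨w, Submodule.mem_span_singleton_self w, rfl⟩
  obtain ⟨c, hc⟩ := Submodule.mem_span_singleton.1 h1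
  have h2 : quadFormPlus 4 F (c • w) = quadFormPlus 4 F w := by
    rw [hc]
    exact iso_of_mem hy w
  have h3 : c * c = 1 := by
    rw [← coe_quadPlus, QuadraticMap.map_smul, smul_eq_mul] at h2
    rw [← coe_quadPlus] at hw
    exact mul_right_cancel₀ hw (by rw [h2, one_mul])
  have hpow : ∀ n : ℕ, lin (y ^ n) w = c ^ n • w := by
    intro n
    induction n with
    | zero => rw [pow_zero, pow_zero, lin_one, one_smul]; rfl
    | succ n ih => rw [pow_succ', lin_mul_apply, ih, map_smul, ← hc, smul_smul, pow_succ]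
  have hw0 : w ≠ 0 := by
    rintro rfl
    apply hw
    rw [← coe_quadPlus, QuadraticMap.map_zero]
  obtain ⟨m, hm⟩ := hodd
  have h4 : c ^ orderOf y • w = w := by
    rw [← hpow, pow_orderOf_eq_one, lin_one]
    rfl
  rw [hm, pow_succ, pow_mul, pow_two, h3, one_pow, one_mul] at h4
  rw [H951.mem_fx, ← hc]
  exact h4

/-- **(F64)** -/
theorem f64 (hF : Nat.card F = p ^ a) (h : Nm p a r b s k t) (pc : Pc F p a r b s k t) (hR : R ≠ ⊤)
    (hs : s ^ k ∣ Nat.card R) (hr : r ∣ Nat.card R) : HasPt R ∨ HasPl R := by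
  -- an image which fixes a plane
  have kP : ∀ α : MulAut (T8 F), FixP (R.map α.toMonoidHom) → HasPl R := by
    rintro α ⟨W, hW, hW0, hle⟩
    refine ⟨α, W, hW, hW0, hle, pc.six hW hW0 hle ?_ ?_⟩
    · rw [card_map]; exact hs
    · rw [card_map]; exact hr
  have kJ : ∀ α : MulAut (T8 F), FixJ (R.map α.toMonoidHom) → HasPl R := by
    intro α hJ
    obtain ⟨β, hβ⟩ := pc.tri_J hJ
    rw [map_map'] at hβ
    exact kP _ hβ
  have kR : ∀ α : MulAut (T8 F), InOrthogonalResidualClass (pre (quadFormPlus 4 F) (R.map α.toMonoidHom)) → HasPt R := by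
    intro α h1
    exact (res_case hF h pc (map_ne_top hR α) (by rw [card_map]; exact hs) (Or.inl (by rw [card_map]; exact hr)) h1).of_map
  have hid : R.map (1 : MulAut (T8 F)).toMonoidHom = R := Subgroup.map_id R
  rcases g6 hF h.rk (R := R.map (1 : MulAut (T8 F)).toMonoidHom) (by rw [card_map]; exact hs) with h1 | h1 | h1 | h1
  · rw [hid] at h1
    obtain ⟨α, y, hy, hyr, hyf⟩ := H708.Rg.tri_V hF h (Or.inl h1) hr
    rcases g6 hF h.rk (R := R.map α.toMonoidHom) (by rw [card_map]; exact hs) with h2 | h2 | h2 | h2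
    · exfalso
      obtain ⟨w, hw, hle⟩ := h2
      have h3 := fx_of_SW (H884.El.pre_le (Q := quadFormPlus 4 F) hy) hw (hle hy)
        (by rw [hyr]; exact (h.pp4 hF).odd (by norm_num))
      rw [hyf, Submodule.mem_bot] at h3
      apply hw
      rw [h3, ← coe_quadPlus, QuadraticMap.map_zero]
    · exact Or.inr (kP α h2)
    · exact Or.inr (kJ α h2)
    · exact Or.inl (kR α h2)
  · exact Or.inr (kP 1 h1)
  · exact Or.inr (kJ 1 h1)
  · exact Or.inl (kR 1 h1)

end Cfsg.Agent.H823.O8R
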