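import Cfsg.Agent.H823.O8R.Defs
import Cfsg.Agent.H823.O8S.Geo
import Cfsg.Agent.H449.Reg.Types
import Cfsg.Agent.H372.O8S.Schur

/-!
# S3691, row `PΩ⁺₈(q)`: quadratic fields normalised by a group with an element of order `r₆` are unitary (helper823)
-/

set_option autoImplicit false
set_option linter.unusedSectionVars false

namespace Cfsg.Agent.H823.O8R

open Module QuadraticMap Cfsg Cfsg.Geo Cfsg.Agent.LieClassical.OrthCore Cfsg.Agent.H955 Cfsg.Agent.H954.TSing
open Cfsg.Agent.LieClassical.OmegaReindex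
open Cfsg.Agent.H951 (fx cm Inv)
open Cfsg.Agent.H884.El
open Cfsg.Agent.H708.O8 (I8 T8 RB)
open Cfsg.Agent.H436 (Prim)
open Cfsg.Agent.H823.O8S
open scoped MatrixGroups Matrix

variable {F : Type} [Field F] [Fintype F]

/-- an irreducible quadratic polynomial -/
theorem exists_irr (F : Type) [Field F] [Fintype F] : ∃ c d : F, ∀ z : F, z * z - c * z + d ≠ 0 := by
  obtain ⟨α, β, h⟩ := H955.exists_aniso_coeff F
  refine ⟨-α, β, fun z hz => ?_⟩
  exact one_ne_zero (h z 1 (by linear_combination hz)).2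

/-- the `q`-th power of a root in a field of order `q²` -/
theorem root_pow {K : Subalgebra F (Matrix I8 I8 F)} (hK : IsFieldSubalgebra 2 K) {c d : F}
    (hirr : ∀ z : F, z * z - c * z + d ≠ 0) {j : Matrix I8 I8 F} (hj : j ∈ K) (hj2 : j * j = c • j - d • (1 : Matrix I8 I8 F)) :
    j ^ (Fintype.card F ^ 3) = c • (1 : Matrix I8 I8 F) - j := by
  let _ : Field K := (H912.isField_of_fieldSub hK).toField
  have hKfin : Finite K := Module.finite_of_finite F
  let φ : K →ₐ[F] K := FiniteField.frobeniusAlgHom F K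
  have hφ : ∀ x : K, φ x = x ^ Fintype.card F := fun x => rfl
  let J : K := ⟨j, hj⟩
  have hJ : J * J = c • J - d • (1 : K) := Subtype.ext hj2
  have h1 : φ J * φ J = c • φ J - d • (1 : K) := by
    rw [← map_mul, hJ, map_sub, map_smul, map_smul, map_one]
  have h2 : (φ J - J) * (φ J + J - c • (1 : K)) = 0 := by
    rw [Algebra.smul_def, Algebra.smul_def, mul_one] at h1 hJ
    rw [Algebra.smul_def, mul_one]
    linear_combination h1 - hJ
  have h3 : φ J = c • (1 : K) - J := by
    rcases mul_eq_zero.1 h2 with h4 | h4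
    · exfalso
      have h5 : J ^ Fintype.card F = J := sub_eq_zero.1 h4
      obtain ⟨z, hz⟩ := H372.O8S.mem_range_of_pow (algebraMap F K) h5
      rw [← hz, Algebra.smul_def, Algebra.smul_def, mul_one, ← map_mul, ← map_mul, ← map_sub] at hJ
      exact hirr z (by rw [(algebraMap F K).injective hJ]; ring)
    · rw [eq_sub_iff_add_eq]
      exact sub_eq_zero.1 h4
  have h4 : J ^ (Fintype.card F ^ 3) = c • (1 : K) - J := by
    have h5 : J ^ (Fintype.card F ^ 3) = φ (φ (φ J)) := by
      rw [hφ, hφ, hφ, ← pow_mul, ← pow_mul]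
      congr 1
      ring
    rw [h5, h3, map_sub, map_smul, map_one, h3, sub_sub_cancel, h3]
  have h5 := congrArg Subtype.val h4
  rw [SubmonoidClass.coe_pow] at h5
  exact h5

theorem polar_add_right8 (u v v' : I8 → F) : polar (quadFormPlus 4 F) u (v + v') =
    polar (quadFormPlus 4 F) u v + polar (quadFormPlus 4 F) u v' := by
  rw [← coe_quadPlus]
  exact polar_add_right (quadPlus 4 F) u v v'

theorem polar_sub_right8 (u v v' : I8 → F) : polar (quadFormPlus 4 F) u (v - v') =
    polar (quadFormPlus 4 F) u v - polar (quadFormPlus 4 F) u v' := by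
  rw [← coe_quadPlus]
  exact polar_sub_right (quadPlus 4 F) u v v'

theorem polar_smul_right8 (c : F) (u v : I8 → F) : polar (quadFormPlus 4 F) u (c • v) =
    c * polar (quadFormPlus 4 F) u v := by
  rw [← coe_quadPlus, ← smul_eq_mul]
  exact polar_smul_right (quadPlus 4 F) c u v

theorem q_smul8 (c : F) (v : I8 → F) : quadFormPlus 4 F (c • v) = c * c * quadFormPlus 4 F v := by
  rw [← coe_quadPlus, QuadraticMap.map_smul, smul_eq_mul]

theorem q_add8 (u v : I8 → F) : quadFormPlus 4 F (u + v) = quadFormPlus 4 F u + quadFormPlus 4 F v +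
    polar (quadFormPlus 4 F) u v := by
  rw [polar]; ring

/-- the data of an element of order `r₆` -/
structure Six (z : GL I8 F) (s : ℕ) : Prop where
  pp : PP (Nat.card F) 6 s
  pow : z ^ s = 1
  ne : z ≠ 1
  iso : ∀ v, quadFormPlus 4 F (lin z v) = quadFormPlus 4 F v

namespace Six

variable {z : GL I8 F} {s : ℕ}

theorem data (h : Six z s) : fx (lin z) ⊔ cm (lin z) = ⊤ ∧ finrank F (cm (lin z)) = 6 ∧
    (∀ W : Submodule F (I8 → F), Inv (lin z) W → W ≤ fx (lin z) ∨ cm (lin z) ≤ W) ∧
      ∀ U ≤ cm (lin z), Inv (lin z) U → U = ⊥ ∨ U = cm (lin z) :=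
  H449.Reg.elt_data h.pp (by norm_num) (by rw [card_I8']; norm_num) (by
    rw [← H251.GeoCard.toLin_pow, h.pow]; exact lin_one) (lin_ne_one h.ne)
where
  card_I8' : Fintype.card I8 = 8 := by simp

theorem nontriv (h : Six z s) : ∃ v ∈ cm (lin z), v ≠ 0 := by
  refine (Submodule.ne_bot_iff _).1 fun h0 => ?_
  have := h.data.2.1
  rw [h0, finrank_bot] at this
  omega

theorem perp (h : Six z s) {u v : I8 → F} (hu : u ∈ fx (lin z)) (hv : v ∈ cm (lin z)) :
    polar (quadFormPlus 4 F) u v = 0 := polar_cm_fx h.iso hu hv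

end Six

theorem pow_q3 {z : GL I8 F} {s : ℕ} (h : Six z s) : (lin z) ^ (Fintype.card F ^ 3 + 1) = 1 := by
  have h1 : s ∣ Fintype.card F ^ 3 + 1 := by
    have hq : 1 ≤ Nat.card F := Nat.card_pos
    have h2 := (h.pp.dvd_iff hq 6).2 (dvd_refl 6)
    have h3 : ¬ s ∣ Nat.card F ^ 3 - 1 := fun h4 => absurd ((h.pp.dvd_iff hq 3).1 h4) (by norm_num)
    have h4 : Nat.card F ^ 6 - 1 = (Nat.card F ^ 3 + 1) * (Nat.card F ^ 3 - 1) := by
      have h5 := Nat.sq_sub_sq (Nat.card F ^ 3) 1
      rw [one_pow, ← pow_mul] at h5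
      exact h5
    rw [h4] at h2
    rw [← Nat.card_eq_fintype_card]
    exact (h.pp.prime.dvd_mul.1 h2).resolve_right h3
  obtain ⟨m, hm⟩ := h1
  rw [hm, ← lin_pow, pow_mul, h.pow, one_pow, lin_one]

/-- **`F[J]` is unitary** -/
theorem fixJ_of_field {H : Subgroup (GL I8 F)} (hH : H ≤ isometryGroup F (quadFormPlus 4 F))
    (hirr : ActsIrreducibly (matrixSet H)) {s : ℕ} (hs : PP (Nat.card F) 6 s) (hd : s ∣ Nat.card H)
    {K : Subalgebra F (Matrix I8 I8 F)} (hK : IsFieldSubalgebra 2 K)
    (hadj : IsAdjointClosedFor (polar (quadFormPlus 4 F)) K) (hHK : H ≤ subalgebraNormalizer K) :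
    ∃ (J : Module.End F (I8 → F)) (c d : F), Fld J c d ∧ H ≤ NJ J c := by
  have hne : Nonempty I8 := ⟨Sum.inl 0⟩
  have hH' : H ≤ isometryGroup F (⇑(quadPlus 4 F)) := by rw [coe_quadPlus]; exact hH
  obtain ⟨c, d, hcd⟩ := exists_irr F
  obtain ⟨j, hj, hj2⟩ := exists_root hK hcd
  have hjq := root_pow hK hcd hj hj2
  obtain ⟨J, hJ⟩ : ∃ J : Module.End F (I8 → F), J = Matrix.toLin' j := ⟨_, rfl⟩
  have hJv : ∀ v, J v = Matrix.toLin' j v := fun v => by rw [hJ]
  have hJJ : ∀ v, J (J v) = c • J v - d • v := by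
    intro v
    rw [hJv, hJv, ← matl, hj2, map_sub, map_smul, map_smul, Matrix.toLin'_one]
    rfl
  have hKz : ∀ m ∈ K, ∀ v, v ≠ 0 → Matrix.toLin' m v = 0 → m = 0 := by
    intro m hm v hv hmv
    by_contra hne
    obtain ⟨n, hn, hmn⟩ := hK.inv m hm hne
    rw [hK.comm m hm n hn] at hmn
    apply hv
    have h1 : v = Matrix.toLin' (n * m) v := by rw [hmn, Matrix.toLin'_one]; rfl
    rw [h1, matl, hmv, map_zero]
  have hs2 : s ≠ 2 := by
    have := hs.lt (by norm_num)
    omega
  -- elements of order `s`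
  have hcomm : ∀ z ∈ H, Six z s → ∀ v, J (lin z v) = lin z (J v) := by
    intro z hz h v
    have h1 := comm_field Nat.prime_two hK (hHK hz) hs.prime hs2 h.pow j hj
    rw [hJv, hJv, lin, ← matl, ← matl, h1]
  obtain ⟨z, hzH, hziso, hzs, hz1⟩ := exists_elt hH' hs (by norm_num) hd
  have hz : Six z s := ⟨hs, hzs, hz1, by rw [← coe_quadPlus]; exact hziso.iso⟩
  -- the adjoint of `J`
  have hadj1 : ∀ u ∈ cm (lin z), ∀ v ∈ cm (lin z), polar (quadFormPlus 4 F) (J u) v =
      polar (quadFormPlus 4 F) u (c • v - J v) := by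
    intro u hu v hv
    have h1 := H449.Reg.bil_adj (B := polarBilin (quadPlus 4 F)) (z := lin z) (J := J) (U := cm (lin z))
      (fun u w => by
        rw [polarBilin_apply_apply, polarBilin_apply_apply, coe_quadPlus]
        exact polar_iso' hz.iso u w) (h := 3) (pow_q3 hz) H951.inv_cm (fun W hW hWi => hz.data.2.2.2 W hW hWi)
      (fun u hu => pres_cm (hcomm z hzH hz) hu) (hcomm z hzH hz) hu hv
    rw [polarBilin_apply_apply, polarBilin_apply_apply, coe_quadPlus] at h1
    rw [h1]
    congr 1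
    rw [hJ, ← Matrix.toLin'_pow, hjq, map_sub, map_smul, Matrix.toLin'_one]
    rfl
  obtain ⟨j', hj', hadj2⟩ := hadj j hj
  have hj'e : j' = c • (1 : Matrix I8 I8 F) - j := by
    obtain ⟨v, hv, hv0⟩ := hz.nontriv
    have h1 : j' - (c • (1 : Matrix I8 I8 F) - j) ∈ K := K.sub_mem hj' (K.sub_mem (K.smul_mem K.one_mem c) hj)
    refine sub_eq_zero.1 (hKz _ h1 v hv0 ?_)
    have hcz : ∀ v, Matrix.toLin' (j' - (c • (1 : Matrix I8 I8 F) - j)) (lin z v) =
        lin z (Matrix.toLin' (j' - (c • (1 : Matrix I8 I8 F) - j)) v) := by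
      intro v
      have h1 := comm_field Nat.prime_two hK (hHK hzH) hs.prime hs2 hz.pow _ h1
      rw [lin, ← matl, ← matl, h1]
    refine nondeg8 fun u => ?_
    have h2 : u ∈ fx (lin z) ⊔ cm (lin z) := by rw [hz.data.1]; exact Submodule.mem_top
    obtain ⟨u1, hu1, u2, hu2, rfl⟩ := Submodule.mem_sup.1 h2
    rw [polar_add_left8, hz.perp hu1 (pres_cm hcz hv), zero_add, map_sub, LinearMap.sub_apply, polar_sub_right8]
    have h3 : polar (quadFormPlus 4 F) u2 (Matrix.toLin' j' v) = polar (quadFormPlus 4 F) (J u2) v := by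
      rw [hJv, Matrix.toLin'_apply, Matrix.toLin'_apply]
      exact (hadj2 u2 v).symm
    rw [h3, hadj1 u2 hu2 v hv, map_sub, map_smul, Matrix.toLin'_one, ← hJ]
    exact sub_self _
  have hadj3 : ∀ u v, polar (quadFormPlus 4 F) (J u) v = polar (quadFormPlus 4 F) u (c • v - J v) := by
    intro u v
    have h1 := hadj2 u v
    rw [hJv, Matrix.toLin'_apply, h1, hj'e, hJv, Matrix.toLin'_apply, Matrix.sub_mulVec, Matrix.smul_mulVec, Matrix.one_mulVec]
  have hJP : ∀ u v, polar (quadFormPlus 4 F) (J u) (J v) = d * polar (quadFormPlus 4 F) u v := by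
    intro u v
    rw [hadj3, hJJ, sub_sub_cancel, polar_smul_right8]
  -- the subspace of the vectors with `Q (J v) = d Q v`
  let N : Submodule F (I8 → F) :=
    { carrier := {v | quadFormPlus 4 F (J v) = d * quadFormPlus 4 F v}
      add_mem' := by
        intro u v hu hv
        rw [Set.mem_ofPred_eq] at hu hv ⊢
        rw [map_add, q_add8, q_add8, hu, hv, hJP]
        ring
      zero_mem' := by
        rw [Set.mem_ofPred_eq, map_zero, ← coe_quadPlus, QuadraticMap.map_zero, mul_zero]
      smul_mem' := by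
        intro e v hv
        rw [Set.mem_ofPred_eq] at hv ⊢
        rw [map_smul, q_smul8, q_smul8, hv]
        ring }
  have hN : ∀ v, v ∈ N ↔ quadFormPlus 4 F (J v) = d * quadFormPlus 4 F v := fun v => Iff.rfl
  have hNcard : Nat.card (I8 → F) ≤ Nat.card N * Nat.card F := by
    let φ : (I8 → F) →+ F :=
      { toFun := fun v => quadFormPlus 4 F (J v) - d * quadFormPlus 4 F v
        map_zero' := by rw [map_zero, ← coe_quadPlus, QuadraticMap.map_zero, mul_zero, sub_zero]
        map_add' := fun u v => by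
          rw [map_add, q_add8, q_add8, hJP]
          ring }
    have h1 : Nat.card (I8 → F) = Nat.card φ.ker * Nat.card φ.range := by
      rw [← AddSubgroup.card_mul_index φ.ker, AddSubgroup.index_ker]
    have h2 : Nat.card φ.ker = Nat.card N := by
      refine Nat.card_congr (Equiv.subtypeEquivRight fun v => ?_)
      rw [AddMonoidHom.mem_ker]
      exact sub_eq_zero
    rw [h1, h2]
    exact Nat.mul_le_mul_left _ (Nat.card_le_card_of_injective (Subtype.val : φ.range → F) Subtype.val_injective)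
  have hNz : ∀ z ∈ H, Six z s → cm (lin z) ≤ N := by
    intro z hz h
    have h1 : Inv (lin z) N := by
      intro v hv
      rw [hN] at hv ⊢
      rw [hcomm z hz h, h.iso, h.iso, hv]
    rcases h.data.2.2.1 N h1 with h2 | h2
    · exfalso
      have h3 : finrank F N ≤ 2 := by
        have h4 := Submodule.finrank_mono h2
        have h5 : finrank F (fx (lin z)) + finrank F (cm (lin z)) = 8 := by
          have h6 := H951.isCompl_fx_cm (h.pp.ne0 (by norm_num)) (x := lin z) (r := s) (by rw [← lin_pow, h.pow, lin_one])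
          have h7 := Submodule.finrank_add_eq_of_isCompl h6
          rw [h7, Module.finrank_fintype_fun_eq_card]
          simp
        rw [h.data.2.1] at h5
        omega
      have hq : 1 < Nat.card F := Finite.one_lt_card
      have h4 : Nat.card N = Nat.card F ^ finrank F N := Module.natCard_eq_pow_finrank
      have h5 : Nat.card (I8 → F) = Nat.card F ^ 8 := by
        rw [Module.natCard_eq_pow_finrank (K := F), Module.finrank_fintype_fun_eq_card]
        simp
      rw [h4, h5, ← pow_succ] at hNcard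
      have h6 := (Nat.pow_le_pow_iff_right hq).1 hNcard
      omega
    · exact h2
  -- `N` is everything
  have hNtop : N = ⊤ := by
    let M : Submodule F (I8 → F) := ⨆ z : {z : GL I8 F // z ∈ H ∧ Six z s}, cm (lin z.1)
    have hM : ∀ m ∈ matrixSet H, M.map (Matrix.toLin' m) ≤ M := by
      rintro _ ⟨g, hg, rfl⟩
      rw [Submodule.map_iSup]
      refine iSup_le fun y => ?_
      obtain ⟨y, hy, hyS⟩ := y
      have h1 : Six (g * y * g⁻¹) s := by
        refine ⟨hs, ?_, ?_, ?_⟩
        · rw [conj_pow, hyS.pow, mul_one, mul_inv_cancel]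
        · intro h0
          apply hyS.ne
          have h2 : y = g⁻¹ * (g * y * g⁻¹) * g := by group
          rw [h2, h0]
          group
        · intro v
          rw [lin_mul_apply, lin_mul_apply, iso_of_mem (hH hg), hyS.iso, iso_of_mem (hH (H.inv_mem hg))]
      refine le_trans ?_ (le_iSup (fun z : {z : GL I8 F // z ∈ H ∧ Six z s} => cm (lin z.1))
        ⟨g * y * g⁻¹, H.mul_mem (H.mul_mem hg hy) (H.inv_mem hg), h1⟩)
      rintro _ ⟨v, hv, rfl⟩
      obtain ⟨w, rfl⟩ := H951.mem_cm.1 hv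
      refine H951.mem_cm.2 ⟨lin g w, ?_⟩
      rw [lin_mul_apply, lin_mul_apply, lin_inv_apply, map_sub]
    have h2 : M ≤ N := iSup_le fun y => hNz y.1 y.2.1 y.2.2
    rcases hirr M hM with h3 | h3
    · exfalso
      obtain ⟨v, hv, hv0⟩ := hz.nontriv
      have h4 : v ∈ M := Submodule.mem_iSup_of_mem ⟨z, hzH, hz⟩ hv
      rw [h3, Submodule.mem_bot] at h4
      exact hv0 h4
    · rw [eq_top_iff, ← h3]
      exact h2
  refine ⟨J, c, d, ⟨LinearMap.ext hJJ, hcd, fun v => ?_⟩, ?_⟩
  · have h1 : v ∈ N := by rw [hNtop]; exact Submodule.mem_top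
    exact h1
  · intro g hg
    have h2 : (g : Matrix I8 I8 F) * j * ((g⁻¹ : GL I8 F) : Matrix I8 I8 F) ∈ K := ((hHK hg) j).1 hj
    have hgi : ((g⁻¹ : GL I8 F) : Matrix I8 I8 F) * (g : Matrix I8 I8 F) = 1 := by
      rw [← Units.val_mul, inv_mul_cancel, Units.val_one]
    have hgi' : (g : Matrix I8 I8 F) * ((g⁻¹ : GL I8 F) : Matrix I8 I8 F) = 1 := by
      rw [← Units.val_mul, mul_inv_cancel, Units.val_one]
    obtain ⟨m, hm⟩ : ∃ m, m = (g : Matrix I8 I8 F) * j * ((g⁻¹ : GL I8 F) : Matrix I8 I8 F) := ⟨_, rfl⟩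
    rw [← hm] at h2
    have hmg : m * (g : Matrix I8 I8 F) = (g : Matrix I8 I8 F) * j := by
      rw [hm, Matrix.mul_assoc, hgi, Matrix.mul_one]
    have hm2 : m * m = c • m - d • (1 : Matrix I8 I8 F) := by
      have h3 : m * m = (g : Matrix I8 I8 F) * (j * j) * ((g⁻¹ : GL I8 F) : Matrix I8 I8 F) := by
        rw [hm]
        calc (g : Matrix I8 I8 F) * j * ((g⁻¹ : GL I8 F) : Matrix I8 I8 F) * ((g : Matrix I8 I8 F) * j *
              ((g⁻¹ : GL I8 F) : Matrix I8 I8 F)) = (g : Matrix I8 I8 F) * j * (((g⁻¹ : GL I8 F) : Matrix I8 I8 F) *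
              (g : Matrix I8 I8 F)) * j * ((g⁻¹ : GL I8 F) : Matrix I8 I8 F) := by simp only [Matrix.mul_assoc]
          _ = _ := by rw [hgi, Matrix.mul_one]; simp only [Matrix.mul_assoc]
      rw [h3, hj2, Matrix.mul_sub, Matrix.sub_mul, Matrix.mul_smul, Matrix.smul_mul, ← hm, Matrix.mul_smul,
        Matrix.mul_one, Matrix.smul_mul, hgi']
    have h4 : (m - j) * (m + j - c • (1 : Matrix I8 I8 F)) = 0 := by
      have h5 := hK.comm m h2 j hj
      calc (m - j) * (m + j - c • (1 : Matrix I8 I8 F)) = (m * m - c • m) - (j * j - c • j) + (m * j - j * m) := by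
            simp only [Matrix.sub_mul, Matrix.mul_sub, Matrix.mul_add, Matrix.mul_smul, Matrix.mul_one, smul_sub]
            abel
        _ = 0 := by rw [hm2, hj2, h5]; abel
    have hgv : ∀ v, lin g (J v) = Matrix.toLin' m (lin g v) := by
      intro v
      rw [hJv, lin, ← matl, ← matl, hmg]
    by_cases h5 : m - j = 0
    · left
      intro v
      rw [hgv, sub_eq_zero.1 h5, hJv]
    · right
      intro v
      obtain ⟨n, hn, hmn⟩ := hK.inv _ (K.sub_mem h2 hj) h5
      rw [hK.comm _ (K.sub_mem h2 hj) n hn] at hmn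
      have h6 : m + j - c • (1 : Matrix I8 I8 F) = 0 := by
        have h7 := congrArg (fun y => n * y) h4
        beta_reduce at h7
        rwa [← Matrix.mul_assoc, hmn, Matrix.one_mul, Matrix.mul_zero] at h7
      have h8 : m = c • (1 : Matrix I8 I8 F) - j := by
        rw [eq_sub_iff_add_eq]
        exact sub_eq_zero.1 h6
      rw [hgv, h8, map_sub, map_smul, Matrix.toLin'_one, LinearMap.sub_apply, hJv]
      rfl

end Cfsg.Agent.H823.O8R
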