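import Cfsg.Agent.H823.O8R.Field
import Cfsg.Agent.H193.Dg.Orth
import Cfsg.Agent.H884.ElRows
import Cfsg.Agent.H823.O8S.Main

/-!
# S3691, row `PΩ⁺₈(q)`: (G6), the geometric classes of the groups of order divisible by `s ^ k`, `s = r₆` (helper823)
-/

set_option autoImplicit false
set_option linter.unusedSectionVars false

namespace Cfsg.Agent.H823.O8R

open Module QuadraticMap Cfsg Cfsg.Geo Cfsg.Agent.LieClassical.OrthCore Cfsg.Agent.H955 Cfsg.Agent.H954.TSing
open Cfsg.Agent.LieClassical.OmegaReindex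
open Cfsg.Agent.H951 (fx cm Inv)
open Cfsg.Agent.H884.El
open Cfsg.Agent.H708.O8 (I8 T8 RB)
open Cfsg.Agent.H436 (Prim)
open Cfsg.Agent.H823.O8S
open scoped MatrixGroups Matrix

variable {F : Type} [Field F] [Fintype F] {p a s k : ℕ}

theorem ppF (hF : Nat.card F = p ^ a) (h : RK p a s k) : PP (Nat.card F) 6 s := by
  rw [hF]
  refine PP.of_pow ?_ h.ha
  rw [mul_comm]
  exact prim_pp h.hp.one_le h.prim

/-- the Sylow `s`-subgroups of `PΩ⁺₈(q)` are cyclic -/
theorem cyc_six (hs : PP (Nat.card F) 6 s) (R : Subgroup (T8 F)) (P : Subgroup R) (hP : IsPGroup s P) : IsCyclic P := by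
  have h1 : H851.Dg.CycP s R := by
    have h2 := H193.Dg.cycP_of (Q := quadPlus 4 F) (M := R) hs (by norm_num) (fun g _ hgr hg1 =>
      (H449.Reg.elt_data hs (by norm_num) (by simp) (by
        rw [← H251.GeoCard.toLin_pow, hgr]; exact lin_one) (lin_ne_one hg1)).2.1)
    exact h2
  exact h1 P hP

/-- an element of order `s ^ k` -/
theorem exists_pow_six (hs : PP (Nat.card F) 6 s) {R : Subgroup (T8 F)} {k : ℕ} (hd : s ^ k ∣ Nat.card R) :
    ∃ x : R, orderOf x = s ^ k := by
  have := Fact.mk hs.prime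
  obtain ⟨S⟩ : Nonempty (Sylow s R) := inferInstance
  have hcS : IsCyclic S := cyc_six hs R S S.2
  obtain ⟨g, hg⟩ := IsCyclic.exists_generator (α := S)
  have hos : orderOf g = Nat.card S := by
    rw [← Nat.card_zpowers]
    have : Subgroup.zpowers g = ⊤ := by
      rw [eq_top_iff]; intro z _; exact hg z
    rw [this, Subgroup.card_top]
  obtain ⟨c, hc⟩ : s ^ k ∣ Nat.card S := S.pow_dvd_card_of_pow_dvd_card hd
  have hpos : 0 < Nat.card S := Nat.card_pos
  have hc0 : c ≠ 0 := by rintro rfl; omega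
  refine ⟨((g ^ c : S) : R), ?_⟩
  rw [Subgroup.orderOf_coe, orderOf_pow_of_dvd hc0 (by rw [hos, hc]; exact Dvd.intro_left _ rfl), hos, hc,
    Nat.mul_div_cancel _ (Nat.pos_of_ne_zero hc0)]

theorem Six.isoQ {z : GL I8 F} (h : Six z s) : Iso (quadPlus 4 F) (lin z) s :=
  Iso.mk' h.pp (by norm_num) (by rw [← lin_pow, h.pow, lin_one]) (by rw [coe_quadPlus]; exact h.iso)

theorem finrank8 : finrank F (I8 → F) = 8 := by
  rw [Module.finrank_fintype_fun_eq_card]
  simp

/-- the geometry of an element of order `r₆` -/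
theorem Six.plane {z : GL I8 F} (h : Six z s) : finrank F (fx (lin z)) = 2 ∧
    (∀ w ∈ fx (lin z), quadFormPlus 4 F w = 0 → w = 0) := by
  have hQ : Nondeg (quadPlus 4 F) := nondeg_iff.2 quadPlus_nondegenerate
  have hiso := h.isoQ
  have h8 : finrank F (I8 → F) = 8 := finrank8
  obtain ⟨hcm, hcmP⟩ := hiso.even_case hQ (lin_ne_one h.ne) h.pp (by decide) (by rw [h8]; norm_num)
  have hadd := hiso.finrank_add
  have hfx : finrank F ↥(fx (lin z)) = 2 := by
    rw [hcm, h8] at hadd
    generalize finrank F ↥(fx (lin z)) = n at hadd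
    omega
  have hfxP : ¬ IsPlus (res (quadPlus 4 F) (fx (lin z))) := by
    intro h1
    have h5 := (hiso.isPlus_fx hQ (by rw [h8]; decide) (by rw [hcm]; decide)).1 (isPlus_quadPlus 4)
    exact hcmP (h5.2 h1)
  exact ⟨hfx, fun w hw h0 => aniso_of_not_plus hfx hfxP hw (by rw [coe_quadPlus]; exact h0)⟩

theorem le_SW_of_stab {H : Subgroup (GL I8 F)} {W : Submodule F (I8 → F)} (h : H ≤ subspaceStabilizer W) : H ≤ SW W :=
  le_SW fun _ hg w hw => inv_of_mem (h hg) w hw

/-- no group of order divisible by `s ^ k` normalises a group of symplectic type -/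
theorem symp_kill' (hF : Nat.card F = p ^ a) (h : RK p a s k) {H : Subgroup (GL I8 F)}
    (hN : s ^ k ∣ Nat.card H) (hS : SympT H) : False := by
  have hne : Nonempty I8 := ⟨Sum.inl 0⟩
  have hfin : Finite (GL I8 F) := inferInstance
  obtain ⟨R, hRH, hHR, habs, hR, ht⟩ := hS
  obtain ⟨C⟩ := H708.O8.exists_coord_of habs hR (m := 3) (by norm_num) (by rw [card_I8]; norm_num) ht
  have h1 := H708.O8.card_dvd_of_coord Nat.prime_two habs C hHR
  have hr := h.prim.prime
  have h7 := h.seven
  have hc1 : Nat.Coprime (s ^ k) (Nat.card R) := by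
    obtain ⟨n, hn⟩ : ∃ n, Nat.card R = 2 ^ n := by
      rcases ht with h1 | h1 | h1
      · exact ⟨_, h1.2.2⟩
      · exact ⟨_, h1.2.2⟩
      · exact ⟨_, h1.2.2⟩
    rw [hn]
    exact Nat.Coprime.pow _ _ ((Nat.coprime_primes hr Nat.prime_two).2 (by omega))
  have hc2 : Nat.Coprime (s ^ k) (Nat.card F - 1) := by
    apply Nat.Coprime.pow_left
    rw [hr.coprime_iff_not_dvd, hF, h.prim.dvd_iff]
    intro h1
    have h2 := Nat.le_of_dvd h.ha h1
    have h3 := h.ha
    omega
  have h2 := (Nat.Coprime.mul_right hc1 hc2).dvd_of_dvd_mul_left (hN.trans h1)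
  rw [LieClassical.SympCount.card_symplecticGroup, ZMod.card] at h2
  have h3 : (2 : ℕ) ^ (3 ^ 2) * ∏ i ∈ Finset.range 3, (2 ^ (2 * (i + 1)) - 1) = 2 ^ 9 * 3 ^ 4 * (5 * 7) := by decide
  rw [h3] at h2
  have c2 : Nat.Coprime (s ^ k) (2 ^ 9) := Nat.Coprime.pow _ _ ((Nat.coprime_primes hr Nat.prime_two).2 (by omega))
  have c3 : Nat.Coprime (s ^ k) (3 ^ 4) := Nat.Coprime.pow _ _ ((Nat.coprime_primes hr Nat.prime_three).2 (by omega))
  have h4 := (Nat.Coprime.mul_right c2 c3).dvd_of_dvd_mul_left h2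
  rcases h.cases with ⟨h5, rfl⟩ | ⟨rfl, rfl⟩
  · rw [pow_one] at h4
    rcases hr.dvd_mul.1 h4 with h6 | h6
    · have := Nat.le_of_dvd (by norm_num) h6
      omega
    · have := Nat.le_of_dvd (by norm_num) h6
      omega
  · norm_num at h4

/-- **(G6)** -/
theorem g6 (hF : Nat.card F = p ^ a) (h : RK p a s k) {R : Subgroup (T8 F)} (hd : s ^ k ∣ Nat.card R) :
    FixV R ∨ FixP R ∨ FixJ R ∨ InOrthogonalResidualClass (pre (quadFormPlus 4 F) R) := by
  have hne : Nonempty I8 := ⟨Sum.inl 0⟩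
  have hfin : Finite (GL I8 F) := inferInstance
  obtain ⟨H, hHR⟩ : ∃ H, H = pre (quadFormPlus 4 F) R := ⟨_, rfl⟩
  have hH : H ≤ isometryGroup F (quadFormPlus 4 F) := by
    rw [hHR]
    exact H884.El.pre_le (Q := quadFormPlus 4 F) (M := R)
  have hH' : H ≤ isometryGroup F (⇑(quadPlus 4 F)) := by rw [coe_quadPlus]; exact hH
  have hs := ppF hF h
  have hdH : s ^ k ∣ Nat.card H := by
    rw [hHR]
    exact hd.trans card_dvd_pre
  have hk : k ≠ 0 := by
    rcases h.cases with h1 | h1 <;> omega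
  have hsH : s ∣ Nat.card H := (dvd_pow_self s hk).trans hdH
  obtain ⟨z, hzH, hziso, hzs, hz1⟩ := exists_elt hH' hs (by norm_num) hsH
  have hz : Six z s := ⟨hs, hzs, hz1, by rw [← coe_quadPlus]; exact hziso.iso⟩
  obtain ⟨hz2, hz0⟩ := hz.plane
  have h7 : 6 < s := hs.lt (by norm_num)
  have hND : IsNondegenerateQuadraticForm (⇑(quadPlus 4 F)) :=
    Cfsg.Agent.H884.OddForm.isNondegenerate_of_nondeg (quadPlus 4 F) (nondeg_iff.2 quadPlus_nondegenerate)
  rw [← hHR]
  unfold FixV FixP FixJ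
  rw [← hHR]
  by_cases hirr : ActsIrreducibly (matrixSet H)
  swap
  · rcases Cfsg.Agent.H925.reducible_cases hND hH' hirr with
      ⟨W, hW0, hWs, hHW⟩ | ⟨W, hW0, hWn, hdW, hHW⟩ | ⟨-, v, hv, hHW⟩
    · exfalso
      have h1 : W ≤ fx (lin z) := hz.isoQ.ts_le (nondeg_iff.2 quadPlus_nondegenerate) (lin_ne_one hz.ne) hz.pp
        hz.data.2.1 (inv_of_mem (hHW hzH)) hWs
      apply hW0
      rw [Submodule.eq_bot_iff]
      intro w hw
      refine hz0 w (h1 hw) ?_
      have h2 := hWs w hw
      rwa [coe_quadPlus] at h2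
    · obtain ⟨n, hn⟩ : ∃ n, n = finrank F ↥W := ⟨_, rfl⟩
      have hdW' : 2 * n ≤ 8 := by
        rw [hn]
        exact hdW.trans (le_of_eq card_I8)
      have h1 : W ≤ fx (lin z) := by
        rcases hz.data.2.2.1 W (inv_of_mem (hHW hzH)) with h1 | h1
        · exact h1
        · exfalso
          have h2 := Submodule.finrank_mono h1
          rw [hz.data.2.1, ← hn] at h2
          omega
      have h2 := Submodule.finrank_mono h1
      rw [hz2, ← hn] at h2
      have h3 : n ≠ 0 := fun h => hW0 (Submodule.finrank_eq_zero.1 (hn.symm.trans h))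
      by_cases hW1 : finrank F W = 1
      · left
        obtain ⟨v, hv0, hspan⟩ := finrank_eq_one_iff'.1 hW1
        have hWs : W = Submodule.span F {(v : I8 → F)} := by
          apply le_antisymm
          · intro w hw
            obtain ⟨c, hc⟩ := hspan ⟨w, hw⟩
            exact Submodule.mem_span_singleton.2 ⟨c, congrArg Subtype.val hc⟩
          · rw [Submodule.span_singleton_le_iff_mem]
            exact v.2
        refine ⟨v, fun h0 => hv0 (Subtype.ext (hz0 _ (h1 v.2) h0)), ?_⟩
        rw [← hWs]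
        exact le_SW_of_stab hHW
      · right; left
        refine ⟨W, ?_, fun w hw h0 => hz0 w (h1 hw) h0, le_SW_of_stab hHW⟩
        rw [← hn] at hW1 ⊢
        omega
    · left
      refine ⟨v, ?_, le_SW_of_stab hHW⟩
      rwa [coe_quadPlus] at hv
  have h49 : s = 7 → k = 2 := fun h1 => by
    rcases h.cases with h2 | h2
    · omega
    · exact h2.2
  rcases Cfsg.Agent.H925.orth_irreducible_fine (by rw [card_I8]; norm_num) hND hH' hirr with
    ⟨t', k', D, htk, hD, hHD, -⟩ | ⟨k', D, hk, hD, -, hHD⟩ | ⟨s', K, hs', hsn, hK, hKa, hHK⟩ |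
    ⟨n₁, n₂, e, P, -, -, -, h1, h2, h12, -, -, -, -, hHT⟩ | ⟨F₁, s', B, -, -, hs', hcard, -, -, hHF⟩ |
    ⟨s', m, R', hRH, -, hHR', habs, hR', -, hm, hsm, -, ht', -⟩ | ⟨k', t', e, P, E, hkt, hW⟩ | hS
  · -- (C2a)
    exfalso
    rw [card_I8] at htk
    have h2t := hD.decomp.decomp.two_le
    have hkd : k' < 6 := by
      by_contra hcon
      push Not at hcon
      have := Nat.mul_le_mul h2t hcon
      omega
    have hrt := decomp_le hD.decomp.decomp hHD hs hkd hsH
    have hk1 : k' = 1 := by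
      have h3 : k' < 2 := by
        by_contra hcon
        push Not at hcon
        have := Nat.mul_le_mul hrt hcon
        omega
      have := hD.decomp.decomp.pos
      omega
    subst hk1
    obtain rfl : t' = 8 := by omega
    have hs7 : s = 7 := by
      have h8 : s ≠ 8 := by
        intro h0
        have := hs.prime
        rw [h0] at this
        exact absurd this (by norm_num)
      omega
    have hk2 := h49 hs7
    obtain ⟨x, hx⟩ := exists_pow_six hs hd
    obtain ⟨y, hy⟩ := QuotientGroup.mk_surjective (x : T8 F)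
    have hyR : gl8 F y ∈ H := by
      rw [hHR]
      refine pre_of_mem ?_
      have h1 : mk8 F y = (x : T8 F) := hy
      rw [h1]
      exact x.2
    have hxo : orderOf (mk8 F y) = s ^ k := by
      have h1 : mk8 F y = (x : T8 F) := hy
      rw [h1, Subgroup.orderOf_coe, hx]
    -- a power of `y` of order `49`
    have hdy : s ^ k ∣ orderOf (gl8 F y) := by
      have hinj : Function.Injective (gl8 F) := (isometryGroup F (quadFormPlus 4 F)).subtype_injective.comp
        (Omega F (quadFormPlus 4 F)).subtype_injective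
      rw [orderOf_injective _ hinj, ← hxo]
      exact orderOf_map_dvd _ _
    obtain ⟨c, hc⟩ := hdy
    have hpos := orderOf_pos (gl8 F y)
    have hc0 : c ≠ 0 := by
      rintro rfl
      omega
    refine mono_kill (x := gl8 F y ^ c) ?_ ?_ (H.pow_mem hyR c) ⟨D, by rw [← coe_quadPlus]; exact hD, hHD⟩
    · rw [orderOf_pow_of_dvd hc0 (by rw [hc]; exact Dvd.intro_left _ rfl), hc, Nat.mul_div_cancel _ (Nat.pos_of_ne_zero hc0),
        hs7, hk2]
      norm_num
    · rw [← hs7]
      intro h1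
      have h2 := (hs.dvd_iff Nat.card_pos 1).1 (by rw [pow_one]; exact h1)
      exact absurd h2 (by norm_num)
  · exfalso
    rw [card_I8] at hk
    have := decomp_le hD hHD hs (by omega) hsH
    omega
  · -- (C3)
    right; right; left
    rw [card_I8] at hsn
    have hs2 : s' = 2 := by
      have h3 : s' ∣ 2 ^ 3 := by norm_num; exact hsn
      exact (Nat.prime_dvd_prime_iff_eq hs' Nat.prime_two).1 (hs'.dvd_of_dvd_pow h3)
    subst hs2
    refine fixJ_of_field hH hirr hs hsH hK ?_ hHK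
    rw [← coe_quadPlus]
    exact hKa
  · exact absurd (kill_tensor e P hHT h1 h2 h12 hs (by rw [card_I8]; norm_num) hsH) id
  · have hrp : PP p (a * 6) s := by
      rw [mul_comm]
      exact prim_pp h.hp.one_le h.prim
    exact absurd (kill_subfield hHF hs' hcard h.hp hF hrp (by rw [card_I8]; norm_num) (by norm_num) hsH) id
  · -- (C6)
    exfalso
    have h3 := symp_le hHR' habs hR' hm hsm ht' hs (by norm_num) hsH
    rw [card_I8] at h3 hsm
    have hs2 : s' = 2 := by
      have h4 : s' ∣ 2 ^ 3 := by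
        have h5 : (2 : ℕ) ^ 3 = s' ^ m := by rw [← hsm]; norm_num
        rw [h5]
        exact dvd_pow_self s' (by omega)
      exact (Nat.prime_dvd_prime_iff_eq hR'.prime Nat.prime_two).1 (hR'.prime.dvd_of_dvd_pow h4)
    subst hs2
    have hm3 : m = 3 := by
      have h5 : (2 : ℕ) ^ m = 2 ^ 3 := by rw [← hsm]; norm_num
      exact Nat.pow_right_injective (le_refl 2) h5
    subst hm3
    exact symp_kill' hF h hdH ⟨R', hRH, hHR', habs, hR', ht'⟩
  · exact absurd (kill_wreath hW hkt hs (by rw [card_I8]; norm_num) hsH) id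
  · exact Or.inr (Or.inr (Or.inr hS))

end Cfsg.Agent.H823.O8R
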