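import Cfsg.Agent.H823.O8R.RowOf
import Cfsg.Agent.H953.O8R.SpinBox
import Cfsg.Agent.H454.Reg.NotLe
import Cfsg.Agent.H50.HerTop
import Cfsg.Agent.H370.Rg.OutJ
import Cfsg.Agent.S5785

/-!
# S3691: **the row `PΩ⁺₈(q)`** (helper823)
-/

set_option autoImplicit false

namespace Cfsg.Agent.H823.O8R

open Cfsg Cfsg.Agent.H454.Reg
open Cfsg.Agent.H708.O8 (T8)

universe u

/-- the box SPIN (helper953) -/
theorem spin8 {F : Type} [Field F] [Fintype F] {p a : ℕ} (hp : p.Prime) (h16 : 16 ≤ p ^ a) (hF : Nat.card F = p ^ a) :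
    Spin F p a := fun hR S _ hS hC _ hP e h6 => H953.O8R.spin_six hp h16 hF hR S hS hC hP e h6

/-- **the row `PΩ⁺₈(q)`** of S3691, from F34 -/
theorem row8 (hKn : ∀ (X : Type) [Group X] [Finite X] [IsSimpleGroup X], Cfsg.IsKnownSimple' X)
    {F : Type} [Field F] [Fintype F]
    (f34 : ∀ {p a r b s k t : ℕ}, Nat.card F = p ^ a → Nm p a r b s k t → ∀ {R : Subgroup (T8 F)}, R ≠ ⊤ →
      r ^ b ∣ Nat.card R → t ∣ Nat.card R → ¬ s ∣ Nat.card R → p ^ (5 * a) ∣ Nat.card R → C34 R p a r) :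
    Row.{0, u} (POmega F (quadFormPlus 4 F)) := by
  refine row_of hKn (H50.Her.main_of_known hKn) (fun S _ _ _ h => H370.Rg.outJ1 S h)
    (fun q K _ _ hK H hH hS => S5785.result q hK H hH hS) (fun hE => hE.not_le_right) (fun hp h16 hF => spin8 hp h16 hF) f34

end Cfsg.Agent.H823.O8R
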