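import Cfsg.Agent.H823.O8R.Red
import Cfsg.Agent.H826.Rg.PlusFalse
import Cfsg.Agent.H683.O8R.FourOf
import Cfsg.Agent.H679.O8R.Three
import Cfsg.Agent.H372.O8R.Cross
import Cfsg.Agent.H36.O8R.Six
import Cfsg.Agent.H886.O8R.OrdV
import Cfsg.Agent.H708.Rg.TriJ
import Cfsg.Agent.H59.O8S.Num
import Cfsg.Agent.H989.Cov.O8
import Cfsg.Agent.H708.Rg.RedTri

/-!
# S3691, row `PΩ⁺₈(q)`: the row from the pieces (helper823)
-/

set_option autoImplicit false
set_option linter.unusedSectionVars false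

namespace Cfsg.Agent.H823.O8R

open Module QuadraticMap Cfsg Cfsg.Geo Cfsg.Agent.LieClassical.OrthCore Cfsg.Agent.H955 Cfsg.Agent.H954.TSing
open Cfsg.Agent.LieClassical.OmegaReindex Cfsg.Agent.H454.Reg Cfsg.Agent.H449.Reg Cfsg.Agent.H964.Rg
open Cfsg.Agent.ClassicalGeometry.OrthSemi Cfsg.Agent.H708.Rg
open Cfsg.Agent.H951 (fx cm Inv)
open Cfsg.Agent.H884.El
open Cfsg.Agent.H708.O8 (I8 T8 RB)
open Cfsg.Agent.H436 Cfsg.Agent.H264.GN Cfsg.Agent.H915.GN Cfsg.Agent.H264.FKS Cfsg.Agent.OrdDiv Cfsg.Agent.H915.LD Cfsg.Agent.H902 Cfsg.Agent.H902.Names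
open Cfsg.Agent.H823.O8S
open scoped MatrixGroups Matrix Pointwise

universe u

theorem exists_nm {p a : ℕ} (hp : p.Prime) (ha : 1 ≤ a) (h16 : 16 ≤ p ^ a) : ∃ r b s k t, Nm p a r b s k t := by
  obtain ⟨r, b, h1⟩ := Cfsg.Agent.H989.Cov.O8.exists_rb hp ha
  obtain ⟨s, k, h2⟩ := H59.O8S.exists_rk hp ha (by omega) (by omega)
  obtain ⟨t, h3⟩ := Cfsg.Agent.H436.exists_prim (q := p) (e := 3 * a) hp.two_le (by omega) (by
    rintro ⟨rfl, h⟩
    obtain rfl : a = 2 := by omega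
    norm_num at h16)
  exact ⟨r, b, s, k, t, h1, h2, h3, h16⟩

theorem q_ge {p a n g : ℕ} (hp : p.Prime) (ha : 1 ≤ a) (hg : 1 ≤ g)
    (h : n * g ^ 2 = (p ^ a) ^ 12 * ((p ^ a) ^ 2 - 1) * ((p ^ a) ^ 4 - 1) ^ 2 * ((p ^ a) ^ 6 - 1))
    (hl : 3 * Nat.factorial 29 < n) : 16 ≤ p ^ a := by
  by_contra hcon
  push Not at hcon
  have h13 : p ^ a ≤ 13 := by
    rcases Nat.lt_or_ge a 2 with h2 | h2
    · obtain rfl : a = 1 := by omega
      rw [pow_one] at hcon ⊢
      by_contra h3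
      have h4 : p = 14 ∨ p = 15 := by omega
      rcases h4 with rfl | rfl
      · exact absurd hp (by norm_num)
      · exact absurd hp (by norm_num)
    · have hp3 : p ≤ 3 := by
        by_contra h3
        have h4 : 4 ^ 2 ≤ p ^ a := (Nat.pow_le_pow_left (by omega) 2).trans (Nat.pow_le_pow_right hp.pos h2)
        omega
      have hp2 := hp.two_le
      have ha3 : a ≤ 3 := by
        by_contra h3
        have h4 : 2 ^ 4 ≤ p ^ a := (Nat.pow_le_pow_left hp2 4).trans (Nat.pow_le_pow_right hp.pos (by omega))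
        omega
      interval_cases p <;> interval_cases a <;> omega
  obtain ⟨q, hq⟩ : ∃ q, q = p ^ a := ⟨_, rfl⟩
  rw [← hq] at h h13
  have h1 : q ^ 12 * (q ^ 2 - 1) * (q ^ 4 - 1) ^ 2 * (q ^ 6 - 1) ≤ q ^ 12 * q ^ 2 * (q ^ 4) ^ 2 * q ^ 6 :=
    Nat.mul_le_mul (Nat.mul_le_mul (Nat.mul_le_mul_left _ (Nat.sub_le _ _)) (Nat.pow_le_pow_left (Nat.sub_le _ _) 2))
      (Nat.sub_le _ _)
  have h2 : q ^ 12 * q ^ 2 * (q ^ 4) ^ 2 * q ^ 6 = q ^ 28 := by ring
  have h3 : q ^ 28 ≤ 13 ^ 28 := Nat.pow_le_pow_left h13 28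
  have h4 : n ≤ n * g ^ 2 := Nat.le_mul_of_pos_right _ (Nat.pow_pos hg)
  have h5 : (13 : ℕ) ^ 28 < 3 * Nat.factorial 29 := by
    have : Nat.factorial 29 = 8841761993739701954543616000000 := by decide
    rw [this]
    norm_num
  omega

variable {F : Type} [Field F] [Fintype F] {p a : ℕ}

/-- the box SPIN -/
def Spin (F : Type) [Field F] [Fintype F] (p a : ℕ) : Prop :=
  ∀ {R : Subgroup (T8 F)} (_ : R ≠ ⊤) (S : Subgroup R) [S.Normal] (_ : IsSimpleGroup S)
    (_ : Subgroup.centralizer (S : Set R) = ⊥) {P : Subgroup (GL I8 F)}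
    (_ : IsResidualCore (pre (quadFormPlus 4 F) R) P) (_ : S ≃* Soc P) (_ : Sp6 p a S),
    ∃ α : MulAut (T8 F), FixV (R.map α.toMonoidHom)

theorem pc_of (hKn : ∀ (X : Type) [Group X] [Finite X] [IsSimpleGroup X], Cfsg.IsKnownSimple' X)
    (hL : ∀ (K : Type) [Field K] [Fintype K], Fintype.card K = (p ^ a) ^ 2 → H833.Spr4.ResList K (p ^ a))
    (hF : Nat.card F = p ^ a) {r b s k t : ℕ} (h : Nm p a r b s k t) (spin : Spin F p a) : Pc F p a r b s k t where
  tri_J := fun hJ => H708.Rg.tri_J hF hJ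
  spin := spin
  three := fun hV => H679.O8R.three hF h hV
  cross := by
    intro R S _ hS hna hC P hP e hL hs hrt
    have := e.isSimpleGroup_congr.1 hS
    exact H372.O8R.cross hF h S hS hna hC hP e hL (hKn _) hs hrt
  six := fun hW hW0 hR hs hr => H36.O8R.six_of hF h hL hW hW0 hR hs hr
  sieg_of_order := fun hw hR S hS => H886.O8R.sieg_of_order hF h hw hR S hS
  ord_fixP := fun hP => H372.O8R.ord_fixP hF h hP

theorem exists_ts4 : ∃ D : Submodule F ((Fin 4 ⊕ Fin 4) → F), finrank F D = 4 ∧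
    ∀ x ∈ D, H198.Carriers.plusQ 4 F x = 0 := by
  refine ⟨LinearMap.ker (LinearMap.funLeft F F (Sum.inr : Fin 4 → Fin 4 ⊕ Fin 4)), ?_, ?_⟩
  · have h1 := (LinearMap.funLeft F F (Sum.inr : Fin 4 → Fin 4 ⊕ Fin 4)).finrank_range_add_finrank_ker
    rw [LinearMap.range_eq_top.2 (LinearMap.funLeft_surjective_of_injective F F _ Sum.inr_injective), finrank_top] at h1
    simp only [Module.finrank_fintype_fun_eq_card, Fintype.card_fin, Fintype.card_sum] at h1
    exact Nat.add_left_cancel h1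
  · intro x hx
    rw [Cfsg.Agent.H198.Carriers.coe_plusQ]
    have h2 : ∀ i, x (Sum.inr i) = 0 := fun i => congrFun (LinearMap.mem_ker.1 hx) i
    simp [quadFormPlus, h2]

/-- **the row** from SPIN and F34 -/
theorem row_of (hKn : ∀ (X : Type) [Group X] [Finite X] [IsSimpleGroup X], Cfsg.IsKnownSimple' X)
    (hMain : H667.HerFin.Main.{0}) (hJ : H997.Rg.OutJ1.{0})
    (hL : ∀ (q : ℕ) (K : Type) [Field K] [Fintype K], Fintype.card K = q ^ 2 → H833.Spr4.ResList K q)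
    (hNL : ∀ {G : Type u} [Group G] [Finite G] {T H B : Subgroup G}, Ex T H B → ¬ T ≤ B)
    (spin : ∀ {p a : ℕ}, p.Prime → 16 ≤ p ^ a → Nat.card F = p ^ a → Spin F p a)
    (f34 : ∀ {p a r b s k t : ℕ}, Nat.card F = p ^ a → Nm p a r b s k t → ∀ {R : Subgroup (T8 F)}, R ≠ ⊤ →
      r ^ b ∣ Nat.card R → t ∣ Nat.card R → ¬ s ∣ Nat.card R → p ^ (5 * a) ∣ Nat.card R → C34 R p a r) :
    Row.{0, u} (POmega F (quadFormPlus 4 F)) := by
  intro G _ _ T H B hE he
  obtain ⟨eT⟩ : Nonempty (T ≃* T8 F) := he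
  exfalso
  have hf := hE.fac (hNL hE)
  have hTn := hE.normal
  obtain ⟨p, a, hp, ha, hF⟩ := exists_char F
  have hlarge : 3 * Nat.factorial 29 < Nat.card (T8 F) := by
    rw [← Nat.card_congr eT.toEquiv]
    exact hf.large
  have hq := q_ge hp ha (Nat.gcd_pos_of_pos_left _ (by norm_num)) (H832.O8R.card_t8 hF) hlarge
  obtain ⟨r, b, s, k, t, h⟩ := exists_nm hp ha hq
  have hs := ppF hF h.rk
  have pc := pc_of hKn (fun K _ _ hK => hL (p ^ a) K hK) hF h (spin hp hq hF)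
  have pd : Pd F p a r b s k t := ⟨fun hR hd => H683.O8R.f4_of hKn hF h hR hd, fun hR h1 h2 h3 h4 => f34 hF h hR h1 h2 h3 h4⟩
  have hcm : ∀ Z : Subgroup T, Nat.card (Z.map eT.toMonoidHom) = Nat.card Z := fun Z =>
    Subgroup.card_map_of_injective eT.injective
  have key : ∀ {X Y : Subgroup G}, Fac T X Y → ((X = H ∧ Y = B) ∨ (X = B ∧ Y = H)) →
      s ^ k ∣ Nat.card (X.subgroupOf T) → False := by
    intro X Y hf hXY hsX
    have hd := fd_of_fac hf eT hs
    obtain ⟨⟨α, w, hw, hle, hsg⟩, hrX, hrY⟩ := red hF h pc pd hd (by rw [hcm]; exact hsX)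
    have e1 : ((X.subgroupOf T).map eT.toMonoidHom).map α.toMonoidHom = (X.subgroupOf T).map (eT.trans α).toMonoidHom := by
      rw [Subgroup.map_map]
      rfl
    rw [e1] at hle hsg
    rw [hcm] at hrX hrY
    obtain ⟨G1, hT, hX, hf1, hI, hR⟩ := g1_V hF h hf (eT.trans α) hw hle hsg hrX
    refine H826.Rg.plus_false hMain hJ hE good8 (eT.trans α) (coe_eSub_symm hT _) hXY hf1 hR hp ha hF
      (m := 4) ?_ le_rfl ?_ exists_ts4 h.rb.prim.prime ?_ ?_
    · simp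
    · exact ⟨fun _ => by omega, fun h => by omega, fun _ => by omega⟩
    · rw [mul_comm]
      exact (prim_pp hp.one_le h.rb.prim).2
    · exact hrY.trans card_dvd_preG
  have hd := fd_of_fac hf eT hs
  have hsT := (H832.O8R.val_r h hF).2.1
  have hval := hd.val s (H832.O8R.not_dvd_out h hF).2.1
  have hks : k ≤ (Nat.card (T8 F)).factorization s :=
    (hs.prime.pow_dvd_iff_le_factorization Nat.card_pos.ne').1 hsT
  rw [hcm, hcm] at hval
  by_cases h1 : s ∣ Nat.card (H.subgroupOf T)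
  · have h2 : ¬ s ∣ Nat.card (B.subgroupOf T) := by
      have := hd.six
      rw [hcm, hcm] at this
      exact this h1
    rw [Nat.factorization_eq_zero_of_not_dvd h2] at hval
    exact key hf (Or.inl ⟨rfl, rfl⟩) (dvd_of_fac hs.prime Nat.card_pos.ne' (by omega))
  · rw [Nat.factorization_eq_zero_of_not_dvd h1] at hval
    exact key hf.symm (Or.inr ⟨rfl, rfl⟩) (dvd_of_fac hs.prime Nat.card_pos.ne' (by omega))

end Cfsg.Agent.H823.O8R
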